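import Cfsg.Agent.S4200

/-!
Inequalities for class numbers and commuting probabilities.
-/

set_option autoImplicit false
set_option linter.style.haveILetI false

namespace Cfsg.Lib.KP

open Subgroup Finset

variable {A B : Type*} [Group A] [Group B]

theorem cp_congr (e : A ≃* B) : commProb A = commProb B := by
  rw [commProb_def, commProb_def, Nat.card_congr e.toEquiv]
  congr 2
  refine Nat.card_congr (Equiv.subtypeEquiv (e.toEquiv.prodCongr e.toEquiv) fun p => ?_)
  exact ⟨fun h => h.map e, fun h => Commute.of_map e.injective h⟩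

theorem cp_le_sub [Finite A] (H : Subgroup A) : commProb A ≤ commProb H := by
  have h := (Cfsg.Agent.S4200.result H).2.1
  have h1 : (0 : ℚ) < Nat.card A := by exact_mod_cast Nat.card_pos
  have h2 : (0 : ℚ) < Nat.card H := by exact_mod_cast Nat.card_pos
  rw [commProb_def', commProb_def', div_le_div_iff₀ h1 h2, ← H.index_mul_card]
  have : (Nat.card (ConjClasses A) : ℚ) ≤ H.index * Nat.card (ConjClasses H) := by exact_mod_cast h
  push_cast
  nlinarith

theorem cp_le_of_inj [Finite B] (f : A →* B) (hf : Function.Injective f) : commProb B ≤ commProb A := by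
  rw [cp_congr (MonoidHom.ofInjective hf)]
  exact cp_le_sub _

/-- central extensions -/
theorem sum_le_cp [Finite A] [Fintype B] (π : A →* B) (hπ : Function.Surjective π) (hc : π.ker ≤ center A)
    (m : B → ℕ) (hm : ∀ b, (b = 1 ∧ m b ≤ Nat.card B) ∨ ∃ y, b ∈ zpowers y ∧ m b ≤ orderOf y) :
    ((∑ b, m b : ℕ) : ℚ) ≤ commProb A * (Nat.card B : ℚ) ^ 2 := by
  classical
  haveI := Fintype.ofFinite A
  have hA : Nat.card π.ker * Nat.card B = Nat.card A := by
    rw [← π.ker.card_mul_index, index_ker, MonoidHom.range_eq_top.2 hπ, card_top]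
  have h1 : ∀ a : A, m (π a) * Nat.card π.ker ≤ Nat.card (centralizer ({a} : Set A)) := fun a => by
    rcases hm (π a) with ⟨e, h⟩ | ⟨y, hy, h⟩
    · have : centralizer ({a} : Set A) = ⊤ := eq_top_iff.2 fun x _ => mem_centralizer_singleton_iff.2
        (mem_center_iff.1 (hc e) x)
      rw [this, card_top, ← hA, mul_comm]
      exact Nat.mul_le_mul_left _ h
    · obtain ⟨x, rfl⟩ := hπ y
      have hle : (zpowers (π x)).comap π ≤ centralizer ({a} : Set A) := by
        have key : ∀ g : A, π g ∈ zpowers (π x) → ∃ (i : ℤ) (u : A), u ∈ center A ∧ g = x ^ i * u :=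
          fun g ⟨i, hi⟩ => ⟨i, (x ^ i)⁻¹ * g, hc (by
            rw [MonoidHom.mem_ker, map_mul, map_inv, map_zpow, ← hi, inv_mul_cancel]), by group⟩
        intro g hg
        obtain ⟨i, u, hu, rfl⟩ := key g hg
        obtain ⟨j, v, hv, rfl⟩ := key a hy
        rw [mem_centralizer_singleton_iff]
        have c1 : Commute (x ^ i) (x ^ j * v) := (Commute.zpow_zpow_self x i j).mul_right
          (mem_center_iff.1 hv _)
        exact c1.mul_left (mem_center_iff.1 hu _).symm
      refine le_trans ?_ (card_le_of_le hle)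
      have e1 := ((zpowers (π x)).comap π).card_mul_index
      have e2 := (zpowers (π x)).card_mul_index
      rw [index_comap_of_surjective _ hπ] at e1
      rw [Nat.card_zpowers] at e2
      have hi : 0 < (zpowers (π x)).index := Nat.pos_of_ne_zero index_ne_zero_of_finite
      refine Nat.le_of_mul_le_mul_right ?_ hi
      rw [e1, ← hA, ← e2]
      nlinarith [Nat.mul_le_mul_right (Nat.card π.ker * (zpowers (π x)).index) h]
  have h2 : ∑ a : A, m (π a) = Nat.card π.ker * ∑ b, m b := by
    rw [← sum_fiberwise (s := univ) (g := π), mul_sum]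
    refine sum_congr rfl fun b _ => ?_
    rw [sum_congr rfl (g := fun _ => m b) fun a ha => by rw [(mem_filter.1 ha).2], sum_const, smul_eq_mul]
    congr 1
    obtain ⟨a, rfl⟩ := hπ b
    rw [MonoidHom.card_fiber_eq_of_mem_range π (y := 1) ⟨a, rfl⟩ ⟨1, map_one π⟩, Nat.card_eq_fintype_card,
      Fintype.card_subtype]
    simp only [MonoidHom.mem_ker]
  have h3 := FGS.card_classes_mul_card (G := A)
  have h4 : Nat.card π.ker * (∑ b, m b) * Nat.card π.ker ≤ Nat.card (ConjClasses A) * Nat.card A := by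
    rw [h3, ← h2, sum_mul]
    exact sum_le_sum fun a _ => h1 a
  have hk : (0 : ℚ) < Nat.card π.ker := by exact_mod_cast Nat.card_pos
  have hB : (0 : ℚ) < Nat.card B := by exact_mod_cast Nat.card_pos
  rw [commProb_def', ← hA, Nat.cast_mul, div_mul_eq_mul_div, le_div_iff₀ (by positivity)]
  rw [← hA] at h4
  have h5 : ((Nat.card π.ker * (∑ b, m b) * Nat.card π.ker : ℕ) : ℚ) ≤
    (Nat.card (ConjClasses A) * (Nat.card π.ker * Nat.card B) : ℕ) := by exact_mod_cast h4
  push_cast at h5 ⊢
  refine le_of_mul_le_mul_left ?_ hk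
  nlinarith [mul_le_mul_of_nonneg_right h5 hB.le]

theorem three_le_cp [Finite A] [Finite B] (π : A →* B) (hπ : Function.Surjective π) (hc : π.ker ≤ center A) :
    3 * (Nat.card B : ℚ) - 2 ≤ commProb A * (Nat.card B : ℚ) ^ 2 := by
  classical
  haveI := Fintype.ofFinite B
  have h := sum_le_cp π hπ hc (fun b => if b = 1 then Nat.card B else 2) fun b => by
    by_cases hb : b = 1
    · exact Or.inl ⟨hb, by simp [hb]⟩
    · refine Or.inr ⟨b, mem_zpowers b, ?_⟩
      have h1 := orderOf_pos b
      have h2 : orderOf b ≠ 1 := by simpa using hb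
      simp only [hb, if_false]; omega
  refine le_trans (le_of_eq ?_) h
  rw [← add_sum_erase _ _ (mem_univ 1), if_pos rfl, sum_congr rfl (g := fun _ => 2)
    fun b hb => if_neg (ne_of_mem_erase hb), sum_const, card_erase_of_mem (mem_univ _), card_univ,
    ← Nat.card_eq_fintype_card, smul_eq_mul]
  have : 1 ≤ Nat.card B := Nat.card_pos
  push_cast [this]
  ring

/-- weights on the symmetric group of degree four -/
def w4 (g : Equiv.Perm (Fin 4)) : ℕ :=
  if g = 1 then 24 else if g ^ 3 = 1 then 3 else if g ^ 2 = 1 ∧ Equiv.Perm.sign g = -1 then 2 else 4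

theorem w4_sum : ∑ g, w4 g = 96 := by decide +kernel

theorem w4_spec : ∀ g : Equiv.Perm (Fin 4), g = 1 ∨ ∃ y : Equiv.Perm (Fin 4), (g = y ∨ g = y ^ 2) ∧
    y ≠ 1 ∧ (w4 g ≤ 2 ∨ y ^ 2 ≠ 1) ∧ (w4 g ≤ 3 ∨ y ^ 3 ≠ 1) ∧ w4 g ≤ 4 := by decide +kernel

theorem six_cp [Finite A] (π : A →* B) (hπ : Function.Surjective π) (hc : π.ker ≤ center A)
    (e : B ≃* Equiv.Perm (Fin 4)) : 1 ≤ commProb A * 6 := by
  have h := sum_le_cp (e.toMonoidHom.comp π) (e.surjective.comp hπ) (fun a ha => hc (by
    simpa using ha)) w4 fun g => by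
    rcases w4_spec g with rfl | ⟨y, h1, h2, h3, h4, h5⟩
    · exact Or.inl ⟨rfl, by simp [w4, Fintype.card_perm, Nat.factorial]⟩
    refine Or.inr ⟨y, by rcases h1 with rfl | rfl; exacts [mem_zpowers _, npow_mem_zpowers _ _], ?_⟩
    have h0 := orderOf_pos y
    have e1 : orderOf y ≠ 1 := by simpa using h2
    have e2 : orderOf y = 2 → y ^ 2 = 1 := fun e => e ▸ pow_orderOf_eq_one y
    have e3 : orderOf y = 3 → y ^ 3 = 1 := fun e => e ▸ pow_orderOf_eq_one y
    by_contra hlt
    have : orderOf y = 2 ∨ orderOf y = 3 := by omega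
    rcases this with e | e
    · exact h3.elim (by omega) fun h => h (e2 e)
    · exact h4.elim (by omega) fun h => h (e3 e)
  rw [w4_sum, Nat.card_perm] at h
  norm_num [Nat.factorial] at h
  linarith

/-- classes inside a normal subgroup -/
theorem exists_orb [Finite A] (C V : Subgroup A) [C.Normal] (nV : V.Normal) (hV : V ≤ C)
    (hc : C ≤ centralizer (V : Set A)) : ∃ o : ℕ, Nat.card (ConjClasses (A ⧸ C)) + o ≤ Nat.card (ConjClasses A) ∧
      Nat.card V ≤ o * C.index + 1 := by
  classical
  haveI := Fintype.ofFinite A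
  haveI := Fintype.ofFinite (ConjClasses A)
  haveI := Fintype.ofFinite (ConjClasses (A ⧸ C))
  let T : Finset A := (univ.filter (· ∈ V)).erase 1
  let S : Finset (ConjClasses A) := T.image ConjClasses.mk
  refine ⟨#S, ?_, ?_⟩
  · have h1 : (univ : Finset (ConjClasses (A ⧸ C))) ⊆ Sᶜ.image (ConjClasses.map (QuotientGroup.mk' C)) := by
      intro c _
      obtain ⟨d, rfl⟩ := ConjClasses.map_surjective (QuotientGroup.mk'_surjective C) c
      by_cases hd : d ∈ S
      · obtain ⟨v, hv, rfl⟩ := mem_image.1 hd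
        refine mem_image.2 ⟨ConjClasses.mk 1, mem_compl.2 fun h => ?_, ?_⟩
        · obtain ⟨x, hx, e⟩ := mem_image.1 h
          exact ne_of_mem_erase hx (isConj_one_right.1 (ConjClasses.mk_eq_mk_iff_isConj.1 e.symm))
        · change ConjClasses.mk _ = ConjClasses.mk _
          rw [map_one, QuotientGroup.mk'_apply, (QuotientGroup.eq_one_iff v).2
            (hV (mem_filter.1 (mem_of_mem_erase hv)).2)]
      · exact mem_image.2 ⟨d, mem_compl.2 hd, rfl⟩
    have h2 := (card_le_card h1).trans card_image_le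
    rw [card_compl, card_univ] at h2
    have h3 := card_le_univ S
    rw [Nat.card_eq_fintype_card, Nat.card_eq_fintype_card]
    omega
  · have h1 : #T ≤ C.index * #S := card_le_mul_card_image _ _ fun c hc' => by
      obtain ⟨v, hv, rfl⟩ := mem_image.1 hc'
      have h2 : (centralizer ({v} : Set A)).index ≤ C.index :=
        Nat.le_of_dvd (Nat.pos_of_ne_zero index_ne_zero_of_finite) (index_dvd_of_le fun x hx =>
          mem_centralizer_singleton_iff.2 (hc hx v (mem_filter.1 (mem_of_mem_erase hv)).2).symm)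
      refine le_trans ?_ h2
      rw [← FGS.ncard_isConj, ← Set.ncard_coe_finset]
      refine Set.ncard_le_ncard fun x hx => ?_
      exact (ConjClasses.mk_eq_mk_iff_isConj.1 (mem_filter.1 hx).2).symm
    have h2 : #T + 1 = Nat.card V := by
      rw [card_erase_add_one (by simp), Nat.card_eq_fintype_card, Fintype.card_subtype]
    rw [mul_comm] at h1
    omega

theorem egy2 {a b : ℕ} (ha : 0 < a) (hab : a ≤ b) (h : (1 : ℚ) / a + 1 / b < 1) :
    (1 : ℚ) / a + 1 / b ≤ 5 / 6 := by
  have hb : (0 : ℚ) < b := by exact_mod_cast ha.trans_le hab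
  have f : ∀ n : ℕ, 0 < n → n ≤ b → (1 : ℚ) / b ≤ 1 / n := fun n h0 hn =>
    one_div_le_one_div_of_le (by exact_mod_cast h0) (by exact_mod_cast hn)
  have g : ∀ n : ℕ, b ≤ n → (1 : ℚ) / n ≤ 1 / b := fun n hn =>
    one_div_le_one_div_of_le hb (by exact_mod_cast hn)
  have hb' : (0 : ℚ) < 1 / b := by positivity
  rcases Nat.lt_or_ge a 3 with h3 | h3
  · obtain rfl | rfl : a = 1 ∨ a = 2 := by omega
    · norm_num at h hb'; linarith
    · rcases Nat.lt_or_ge b 3 with h4 | h4
      · have := g 2 (by omega); norm_num at this h; linarith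
      · have := f 3 (by norm_num) h4; norm_num at this ⊢; linarith
  · have h1 := f 3 (by norm_num) (h3.trans hab)
    have h2 : (1 : ℚ) / a ≤ 1 / (3 : ℕ) := one_div_le_one_div_of_le (by norm_num) (by exact_mod_cast h3)
    norm_num at h1 h2 ⊢; linarith

theorem egy3 {a b c : ℕ} (ha : 0 < a) (hab : a ≤ b) (hbc : b ≤ c) (h : (1 : ℚ) / a + 1 / b + 1 / c < 1) :
    (1 : ℚ) / a + 1 / b + 1 / c ≤ 41 / 42 := by
  have f : ∀ x n : ℕ, 0 < n → n ≤ x → (1 : ℚ) / x ≤ 1 / n := fun x n h0 hn =>
    one_div_le_one_div_of_le (by exact_mod_cast h0) (by exact_mod_cast hn)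
  have hb0 : 0 < b := ha.trans_le hab
  have hc0 : 0 < c := hb0.trans_le hbc
  have hb' : (0 : ℚ) < 1 / b := by positivity
  have hc' : (0 : ℚ) < 1 / c := by positivity
  have k : ∀ n : ℕ, (1 : ℚ) / c < 1 / n → n + 1 ≤ c := fun n hn => by
    by_contra! hlt
    exact hn.not_ge (f n c hc0 (by omega))
  rcases Nat.lt_or_ge a 4 with h4 | h4
  · obtain rfl | rfl | rfl : a = 1 ∨ a = 2 ∨ a = 3 := by omega
    · exfalso; rw [Nat.cast_one, div_one] at h; linarith
    · rcases Nat.lt_or_ge b 5 with h5 | h5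
      · obtain rfl | rfl | rfl : b = 2 ∨ b = 3 ∨ b = 4 := by omega
        · exfalso; push_cast at h; linarith
        · have := f c 7 (by norm_num) (k 6 (by norm_num at h ⊢; linarith))
          norm_num at this ⊢; linarith
        · have := f c 5 (by norm_num) (k 4 (by norm_num at h ⊢; linarith))
          norm_num at this ⊢; linarith
      · have h1 := f b 5 (by norm_num) h5
        have h2 := f c 5 (by norm_num) (h5.trans hbc)
        norm_num at h1 h2 ⊢; linarith
    · have h1 := f b 3 (by norm_num) hab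
      rcases Nat.lt_or_ge c 4 with h5 | h5
      · obtain rfl : b = 3 := by omega
        obtain rfl : c = 3 := by omega
        norm_num at h
      · have h2 := f c 4 (by norm_num) h5
        norm_num at h1 h2 ⊢; linarith
  · have h1 := f a 4 (by norm_num) h4
    have h2 := f b 4 (by norm_num) (h4.trans hab)
    have h3 := f c 4 (by norm_num) ((h4.trans hab).trans hbc)
    norm_num at h1 h2 h3 ⊢; linarith

theorem egy {ι : Type*} (s : Finset ι) (hs : #s ≤ 3) (c : ι → ℕ) (hc : ∀ i, 0 < c i)
    (h : ∑ i ∈ s, (1 : ℚ) / c i < 1) : ∑ i ∈ s, (1 : ℚ) / c i ≤ 41 / 42 := by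
  classical
  obtain e | e | e | e : #s = 0 ∨ #s = 1 ∨ #s = 2 ∨ #s = 3 := by omega
  · rw [card_eq_zero.1 e]; norm_num
  · obtain ⟨x, rfl⟩ := card_eq_one.1 e
    rw [sum_singleton] at h ⊢
    have h1 : 2 ≤ c x := by
      by_contra! hlt
      have : c x = 1 := by have := hc x; omega
      simp [this] at h
    have := one_div_le_one_div_of_le (show (0 : ℚ) < 2 by norm_num) (show (2 : ℚ) ≤ c x by exact_mod_cast h1)
    linarith
  · obtain ⟨x, y, hxy, rfl⟩ := card_eq_two.1 e
    rw [sum_pair hxy] at h ⊢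
    rcases le_total (c x) (c y) with h1 | h1
    · linarith [egy2 (hc x) h1 h]
    · linarith [egy2 (hc y) h1 (by linarith)]
  · obtain ⟨x, y, z, hxy, hxz, hyz, rfl⟩ := card_eq_three.1 e
    rw [sum_insert (by simp [hxy, hxz]), sum_pair hyz] at h ⊢
    rcases le_total (c x) (c y) with h1 | h1 <;> rcases le_total (c y) (c z) with h2 | h2 <;>
      rcases le_total (c x) (c z) with h3 | h3
    · linarith [egy3 (hc x) h1 h2 (by linarith)]
    · linarith [egy3 (hc x) h1 h2 (by linarith)]
    · linarith [egy3 (hc x) h3 h2 (by linarith)]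
    · linarith [egy3 (hc z) h3 h1 (by linarith)]
    · linarith [egy3 (hc y) h1 h3 (by linarith)]
    · linarith [egy3 (hc y) h2 h3 (by linarith)]
    · linarith [egy3 (hc z) h2 h1 (by linarith)]
    · linarith [egy3 (hc z) h2 h1 (by linarith)]

/-- groups with at most four classes -/
theorem card_le_of_classes [Finite A] (h : Nat.card (ConjClasses A) ≤ 4) : Nat.card A ≤ 42 := by
  classical
  haveI := Fintype.ofFinite A
  haveI := Fintype.ofFinite (ConjClasses A)
  have hA : (0 : ℚ) < Nat.card A := by exact_mod_cast Nat.card_pos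
  let c : ConjClasses A → ℕ := fun C => Nat.card (centralizer ({C.out} : Set A))
  have h1 : ∀ C : ConjClasses A, (1 : ℚ) / c C = Nat.card C.carrier / Nat.card A := fun C => by
    have e := FGS.card_carrier_eq_index C.out
    rw [show ConjClasses.mk C.out = C from C.out_eq] at e
    have hc : (0 : ℚ) < c C := by exact_mod_cast Nat.card_pos
    rw [e, div_eq_div_iff hc.ne' hA.ne', one_mul, ← (centralizer ({C.out} : Set A)).index_mul_card]
    push_cast; rfl
  have h2 : ∑ C : ConjClasses A, (1 : ℚ) / c C = 1 := by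
    rw [sum_congr rfl fun C _ => h1 C, ← sum_div, div_eq_one_iff_eq hA.ne', ← Nat.cast_sum, Nat.cast_inj,
      ← Group.sum_card_conj_classes_eq_card A, finsum_eq_sum_of_fintype]
    exact sum_congr rfl fun C _ => Nat.card_coe_set_eq _
  have h3 : (1 : ℚ) / c (ConjClasses.mk 1) = 1 / Nat.card A := by
    rw [h1, FGS.card_carrier_eq_index, show centralizer ({1} : Set A) = ⊤ from
      eq_top_iff.2 fun x _ => mem_centralizer_singleton_iff.2 (by simp), index_top, Nat.cast_one]
  rw [← add_sum_erase _ _ (mem_univ (ConjClasses.mk 1)), h3] at h2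
  have h4 : (0 : ℚ) < 1 / Nat.card A := by positivity
  have h5 := egy (univ.erase (ConjClasses.mk (1 : A))) (by
    rw [card_erase_of_mem (mem_univ _), card_univ, ← Nat.card_eq_fintype_card]; omega) c
    (fun _ => Nat.card_pos) (by linarith)
  have h6 : (1 : ℚ) / 42 ≤ 1 / Nat.card A := by linarith
  exact_mod_cast (one_div_le_one_div (by norm_num) hA).1 h6

theorem two_le_classes [Finite A] (h : Nat.card A ≠ 1) : 2 ≤ Nat.card (ConjClasses A) := by
  haveI : Nontrivial A := Finite.one_lt_card_iff_nontrivial.1 (by have := Nat.card_pos (α := A); omega)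
  obtain ⟨x, hx⟩ := exists_ne (1 : A)
  haveI : Nontrivial (ConjClasses A) := ⟨⟨ConjClasses.mk 1, ConjClasses.mk x, fun e =>
    hx (isConj_one_right.1 (ConjClasses.mk_eq_mk_iff_isConj.1 e))⟩⟩
  exact Finite.one_lt_card

end Cfsg.Lib.KP
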