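import Cfsg.Agent.Lib.KP.Perm
import Cfsg.Agent.Lib.KP.Cp

/-!
Imprimitive solvable linear groups: orders and commuting probabilities.
-/

set_option autoImplicit false
set_option linter.style.haveILetI false

namespace Cfsg.Lib.KP

open Subgroup MulAction Cfsg.Lib.SL
open scoped Pointwise

universe u

/-- order bound for irreducible solvable groups on modules of order `n` -/
def OrdB (n b : ℕ) : Prop :=
  ∀ (A V : Type u) [Group A] [Finite A] [Group.IsSolvable A] [AddCommGroup V] [Finite V]
    [DistribMulAction A V] [FaithfulSMul A V], Nat.card V = n → Irr A V → Nat.card A ≤ b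

/-- commuting probability bound for irreducible solvable groups on modules of order `n` -/
def CpB (n : ℕ) (c : ℚ) : Prop :=
  ∀ (A V : Type u) [Group A] [Finite A] [Group.IsSolvable A] [AddCommGroup V] [Finite V]
    [DistribMulAction A V] [FaithfulSMul A V], Nat.card V = n → Irr A V → 1 ≤ commProb A * c

theorem dich' {A : Type*} {V : Type u} [Group A] [AddCommGroup V] [DistribMulAction A V] [Finite A]
    [Group.IsSolvable A] [Finite V] [Nontrivial V] :
    (∃ W : AddSubgroup V, W ≠ ⊥ ∧ W ≠ ⊤ ∧ Indep A W) ∨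
      ∃ (K : Type u) (_ : Field K) (_ : Finite K) (_ : Module K V) (U R : Subgroup A), Pr V K U R := by
  obtain ⟨U, R, h⟩ := exists_UR (A := A)
  have hU : ∀ u ∈ U, ∀ u' ∈ U, u * u' = u' * u := fun u hu u' hu' => h.cU u hu u' (h.le hu')
  by_cases h0 : ∃ ρ ∈ rng V U, ρ ≠ 0 ∧ ∃ v, v ≠ 0 ∧ ρ v = 0
  · obtain ⟨ρ, h1, h2, v, h3, h4⟩ := h0
    exact Or.inl (exists_indep h.nU hU h1 h2 h3 h4)
  right
  push Not at h0
  have hF : IsField (rng V U) := by
    letI : CommRing (rng V U) :=
      { (inferInstance : Ring (rng V U)) with mul_comm := fun a b => Subtype.ext (rng_mul_comm hU a.2 b.2) }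
    haveI : NoZeroDivisors (rng V U) := ⟨fun {a b} e => by
      by_contra! hc
      refine hc.2 (Subtype.ext (LinearMap.ext fun v => ?_))
      by_contra hv
      exact h0 a a.2 (fun e => hc.1 (Subtype.ext e)) _ hv (LinearMap.congr_fun (congrArg Subtype.val e) v)⟩
    haveI : IsDomain (rng V U) := NoZeroDivisors.to_isDomain _
    exact Finite.isField_of_domain _
  letI := hF.toField
  exact ⟨rng V U, inferInstance, inferInstance, inferInstance, U, R, h, fun u hu => ⟨⟨emb A V u,
    Subring.subset_closure ⟨u, hu, rfl⟩⟩, fun _ => rfl⟩, fun a ha c v => rng_comm ha c.2 v, fun a =>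
    ⟨(cj V a).restrict _ _ fun _ => cj_mem h.nU a, fun c v => (cj_apply a c v).symm⟩⟩

section

variable {A : Type*} {V : Type u} [Group A] [Finite A] [Group.IsSolvable A] [AddCommGroup V] [Finite V]
  [DistribMulAction A V]

theorem OrdB.range {b : ℕ} (h : OrdB.{u} (Nat.card V) b) (irr : Irr A V) : Nat.card (emb A V).range ≤ b :=
  haveI : Group.IsSolvable (emb A V).range :=
    Group.isSolvable_of_surjective (emb A V).rangeRestrict_surjective
  h (emb A V).range V rfl fun W h => irr W fun a => h ((emb A V).rangeRestrict a)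

theorem CpB.range {c : ℚ} (h : CpB.{u} (Nat.card V) c) (irr : Irr A V) : 1 ≤ commProb (emb A V).range * c :=
  haveI : Group.IsSolvable (emb A V).range :=
    Group.isSolvable_of_surjective (emb A V).rangeRestrict_surjective
  h (emb A V).range V rfl fun W h => irr W fun a => h ((emb A V).rangeRestrict a)

omit [Finite A] [Group.IsSolvable A] [Finite V] in
theorem ker_emb : (emb A V).ker = (toPermHom A V).ker := by
  ext a
  rw [mem_kerP, MonoidHom.mem_ker]
  exact ⟨fun e v => by rw [← emb_smul, e, one_smul], fun e => units_faith _ e⟩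

theorem OrdB.tau {b : ℕ} (h : OrdB.{u} (Nat.card V) b) (irr : Irr A V) : tau A V ≤ b := by
  rw [KP.tau, ← ker_emb, index_ker]
  exact h.range irr

end

theorem imp_data {A V : Type u} [Group A] [Finite A] [Group.IsSolvable A] [AddCommGroup V] [Finite V]
    [DistribMulAction A V] [FaithfulSMul A V] (irr : Irr A V) {W : AddSubgroup V}
    (h0 : W ≠ ⊥) (h1 : W ≠ ⊤) (hW : Indep A W) : ∃ t τ w : ℕ, 2 ≤ t ∧ 2 ≤ w ∧ Nat.card V = w ^ t ∧
      τ ≤ t.factorial ∧ 3 * τ ≤ 3 ^ t ∧ (∀ b, OrdB.{u} w b → Nat.card A ≤ τ * b ^ t) ∧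
      ∀ c : ℚ, 0 ≤ c → CpB.{u} w c → 1 ≤ commProb A * (τ ^ 2 * c ^ t) := by
  classical
  haveI := Fintype.ofFinite (orbit A W)
  let j₀ : orbit A W := ⟨W, mem_orbit_self W⟩
  haveI : Nonempty (orbit A W) := ⟨j₀⟩
  have inv : ∀ (j : orbit A W) (a : A), a • j = j → ∀ v ∈ (j : AddSubgroup V), a • v ∈ (j : AddSubgroup V) :=
    fun j a e v hv => by
      have := (orbit_mem a j v).2 hv
      rwa [e] at this
  have hc : ∀ j : orbit A W, Nat.card (j : AddSubgroup V) = Nat.card W := fun j => by
    obtain ⟨a, rfl⟩ := orbit_tr j j₀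
    exact (Nat.card_congr (Equiv.subtypeEquiv (toPerm a) fun v => (orbit_mem a j₀ v).symm)).symm
  have dec : ∀ v : V, ∃ s : orbit A W → V, (∀ j : orbit A W, s j ∈ (j : AddSubgroup V)) ∧ ∑ j, s j = v := fun v => by
    obtain ⟨s, hs, e⟩ := exists_sum irr j₀ h0 (inv j₀) v
    refine ⟨s, fun j => ?_, e⟩
    obtain ⟨b, rfl⟩ := orbit_tr j j₀
    rw [← smul_inv_smul b (s _), orbit_mem]
    exact hs _ b rfl
  have hV : Nat.card V = Nat.card W ^ Nat.card (orbit A W) := by
    have := Nat.card_congr (Equiv.ofBijective (fun s : (∀ j : orbit A W, (j : AddSubgroup V)) =>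
      ∑ j, (s j : V)) ⟨fun s s' e => funext fun j => Subtype.ext
        (hW.eq (fun j => (s j).2) (fun j => (s' j).2) e j), fun v => by
          obtain ⟨s, hs, e⟩ := dec v
          exact ⟨fun j => ⟨s j, hs j⟩, e⟩⟩)
    rw [← this, Nat.card_pi, Finset.prod_congr rfl fun j _ => hc j, Finset.prod_const, Finset.card_univ,
      Nat.card_eq_fintype_card (α := orbit A W)]
  have w2 : 2 ≤ Nat.card W := (AddSubgroup.one_lt_card_iff_ne_bot W).2 h0
  have t2 : 2 ≤ Nat.card (orbit A W) := by
    by_contra hlt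
    have h2 : Nat.card (orbit A W) = 1 := by have := Nat.card_pos (α := orbit A W); omega
    rw [h2, pow_one] at hV
    exact h1 (AddSubgroup.eq_top_of_card_eq W hV.symm)
  let K := (toPermHom A (orbit A W)).ker
  letI act : ∀ j : orbit A W, DistribMulAction (stabilizer A j) (j : AddSubgroup V) := fun j =>
    invAct (stabilizer A j) (j : AddSubgroup V) fun a v hv => inv j a a.2 v hv
  have irr' : ∀ j : orbit A W, Irr (stabilizer A j) (j : AddSubgroup V) := fun j W' h =>
    or_iff_not_imp_left.2 fun e => eq_top_iff.2 fun v _ => by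
      obtain ⟨w, hw, e⟩ := hW.le irr j (W' := W'.map (AddSubgroup.subtype _)) (by
        rwa [Ne, AddSubgroup.map_eq_bot_iff_of_injective _ Subtype.val_injective])
        (AddSubgroup.map_subtype_le _) (by
          rintro a ha _ ⟨w, hw, rfl⟩
          exact ⟨_, h ⟨a, ha⟩ w hw, rfl⟩) v.2
      exact (Subtype.ext e : w = v) ▸ hw
  let φ : K →* ∀ j : orbit A W, (emb (stabilizer A j) (j : AddSubgroup V)).range :=
    MonoidHom.pi fun j => (emb (stabilizer A j) (j : AddSubgroup V)).rangeRestrict.comp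
      (inclusion fun a ha => mem_kerP.1 ha j)
  have hφ : Function.Injective φ := (injective_iff_map_eq_one φ).2 fun a e =>
    Subtype.ext (eq_of_smul_eq_smul fun v : V => by
      obtain ⟨s, hs, rfl⟩ := dec v
      rw [OneMemClass.coe_one, one_smul, Finset.smul_sum]
      refine Finset.sum_congr rfl fun j _ => ?_
      have e1 := congrArg Subtype.val (congrFun e j)
      have e2 := congrArg (fun g : (Module.End ℤ (j : AddSubgroup V))ˣ =>
        ((g • (⟨s j, hs j⟩ : (j : AddSubgroup V)) : (j : AddSubgroup V)) : V)) e1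
      exact e2)
  refine ⟨_, tau A (orbit A W), _, t2, w2, hV, tau_le_fact _ _, tau_le _ _, fun b hb => ?_, fun c c0 hb => ?_⟩
  · rw [← K.index_mul_card]
    refine Nat.mul_le_mul_left _ ((Nat.card_le_card_of_injective φ hφ).trans ?_)
    rw [Nat.card_pi, Nat.card_eq_fintype_card (α := orbit A W), ← Finset.card_univ]
    exact Finset.prod_le_pow_card _ _ _ fun j _ => OrdB.range (hc j ▸ hb) (irr' j)
  · have h2 := cp_le_of_inj φ hφ
    rw [commProb_pi] at h2
    have h3 : 1 ≤ (∏ j : orbit A W, commProb (emb (stabilizer A j) (j : AddSubgroup V)).range) *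
        c ^ Nat.card (orbit A W) := by
      rw [Nat.card_eq_fintype_card, ← Finset.card_univ, ← Finset.prod_const, ← Finset.prod_mul_distrib]
      exact Finset.one_le_prod fun j _ => CpB.range (hc j ▸ hb) (irr' j)
    have h4 := K.commProb_subgroup_le
    calc _ ≤ _ := h3
      _ ≤ commProb A * (K.index : ℚ) ^ 2 * c ^ Nat.card (orbit A W) :=
        mul_le_mul_of_nonneg_right (h2.trans h4) (pow_nonneg c0 _)
      _ = _ := mul_assoc _ _ _

end Cfsg.Lib.KP
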