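import Cfsg.Agent.Lib.KP.Prim2

/-!
Commuting probability of irreducible solvable linear groups.
-/

set_option autoImplicit false
set_option linter.style.haveILetI false
set_option linter.unusedSectionVars false

namespace Cfsg.Lib.KP

open Subgroup MulAction Cfsg.Lib.SL

universe u

theorem cost_of {c κ B x : ℚ} (h1 : 1 ≤ κ) (h2 : κ ≤ B) (hx : 1 ≤ x) (hB : B ^ 2 ≤ x * (3 * B - 2))
    (h : 3 * κ - 2 ≤ c * κ ^ 2) : 1 ≤ c * x := by
  have h3 : κ ^ 2 ≤ x * (3 * κ - 2) := by
    rcases (h1.trans h2).eq_or_lt with e | e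
    · obtain rfl : κ = B := le_antisymm h2 (e ▸ h1)
      exact hB
    · refine le_of_mul_le_mul_left ?_ (sub_pos.2 e)
      nlinarith [mul_nonneg (sub_nonneg.2 h2) (sub_nonneg.2 hx), mul_nonneg (sub_nonneg.2 h1) (sub_nonneg.2 hB),
        mul_nonneg (mul_nonneg (sub_nonneg.2 h1) (sub_nonneg.2 h2)) (sub_pos.2 e).le]
  refine le_of_mul_le_mul_right ?_ (show 0 < κ ^ 2 by positivity)
  nlinarith [mul_le_mul_of_nonneg_left h (zero_le_one.trans hx)]

/-- cost of the linear part -/
def ce (e : ℕ) : ℕ := if e = 3 then 73 else if e = 4 then 385 else 9 ^ (e - 1)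

/-- cost bounds -/
def cb (p n : ℕ) : ℕ := if n = 3 then (if 3 ∣ p - 1 then 73 else 36) else if n = 4 then 720 else 9 ^ (n - 1)

theorem ce_le (e : ℕ) : ce e ≤ 9 ^ (e - 1) := by
  unfold ce; split_ifs with h h <;> simp [*]

theorem cb_le (p n : ℕ) : cb p n ≤ 9 ^ (n - 1) := by
  unfold cb; split_ifs with h h <;> simp [*]

theorem pow_eight_le {e : ℕ} (h : 8 ≤ e) : e ^ 8 ≤ 4 * 9 ^ (e - 1) := by
  induction e, h using Nat.le_induction with
  | base => norm_num
  | succ n h ih =>
    have h1 : 8 * (n + 1) ≤ 9 * n := by omega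
    have h2 := Nat.pow_le_pow_left h1 8
    rw [mul_pow, mul_pow] at h2
    rw [show n + 1 - 1 = n - 1 + 1 by omega, pow_succ 9]
    omega

theorem sq_le_nine (f : ℕ) : f ^ 2 ≤ 9 ^ (f - 1) := by
  induction f with
  | zero => simp
  | succ n ih =>
    rcases n with _ | n
    · simp
    · rw [Nat.add_sub_cancel] at ih ⊢
      rw [pow_succ 9]
      nlinarith [Nat.zero_le (n * n)]

theorem cost_e {c : ℚ} {e κ : ℕ} (h0 : 0 < κ) (h1 : κ ≤ kb e)
    (h : 3 * (κ : ℚ) - 2 ≤ c * κ ^ 2) : 1 ≤ c * ce e := by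
  have k1 : (1 : ℚ) ≤ κ := by exact_mod_cast h0
  have k2 : (κ : ℚ) ≤ kb e := by exact_mod_cast h1
  by_cases e2 : e = 2
  · subst e2; exact cost_of k1 k2 (by norm_num [ce]) (by norm_num [ce, kb]) h
  by_cases e3 : e = 3
  · subst e3; exact cost_of k1 k2 (by norm_num [ce]) (by norm_num [ce, kb]) h
  by_cases e4 : e = 4
  · subst e4; exact cost_of k1 k2 (by norm_num [ce]) (by norm_num [ce, kb]) h
  have h2 : kb e ≤ ce e := by
    rw [ce, if_neg e3, if_neg e4]
    by_cases e8 : 8 ≤ e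
    · rw [kb, if_neg (by omega), if_neg e2, if_neg e3, if_neg e4, if_neg (by omega),
        if_neg (by omega), if_neg (by omega)]
      exact Nat.div_le_of_le_mul (pow_eight_le e8)
    · have : e < 8 := by omega
      interval_cases e <;> simp [kb] at e2 e3 e4 ⊢
  have k3 : (κ : ℚ) ≤ ce e := by exact_mod_cast h1.trans h2
  exact cost_of k1 le_rfl (k1.trans k3) (by nlinarith) h

theorem cpB (p : ℕ) (hp : p.Prime) (n : ℕ) (n0 : 0 < n) : CpB.{u} (p ^ n) (cb p n) := by
  induction n using Nat.strong_induction_on with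
  | _ n ih =>
  intro A V _ _ _ _ _ _ _ hV irr
  haveI : Nontrivial V := Finite.one_lt_card_iff_nontrivial.1 (hV ▸ Nat.one_lt_pow n0.ne' hp.one_lt)
  have c0 := (commProb_pos A).le
  rcases dich' (A := A) (V := V) with ⟨W, h0, h1, hW⟩ | ⟨K, _, _, _, U, R, h⟩
  · obtain ⟨t, τ, w, t2, w2, e, h2, h3, -, h4⟩ := imp_data irr h0 h1 hW
    obtain ⟨m, rfl, rfl, m0⟩ := pow_eq_pow hp t2 w2 (hV ▸ e)
    have hm : m < m * t := by nlinarith
    refine (h4 _ (Nat.cast_nonneg _) (ih m hm m0)).trans (mul_le_mul_of_nonneg_left ?_ c0)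
    norm_cast
    refine (Nat.mul_le_mul_left _ (Nat.pow_le_pow_left (cb_le p m) t)).trans ?_
    by_cases h5 : m * t = 3 ∨ m * t = 4
    · have t4 : t ≤ 4 := by rcases h5 with h5 | h5 <;> nlinarith
      have m2 : m ≤ 2 := by rcases h5 with h5 | h5 <;> nlinarith
      refine (Nat.mul_le_mul_right _ (Nat.pow_le_pow_left h2 2)).trans ?_
      interval_cases m <;> interval_cases t <;> simp [cb, Nat.factorial] at h5 ⊢
      split_ifs <;> omega
    · rw [cb, if_neg (by omega), if_neg (by omega)]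
      have h6 := Nat.pow_le_pow_left h3 2
      rw [← pow_mul, mul_comm t, pow_mul, mul_pow] at h6
      refine Nat.le_of_mul_le_mul_left ?_ (show 0 < 3 ^ 2 by norm_num)
      rw [← mul_assoc]
      refine (Nat.mul_le_mul_right _ h6).trans (le_of_eq ?_)
      rw [show (3 : ℕ) ^ 2 = 9 from rfl, ← pow_mul, ← pow_add, ← pow_succ']
      congr 1
      rw [Nat.sub_add_cancel (by omega), Nat.sub_one_mul]
      have := Nat.le_mul_of_pos_left t m0
      omega
  · obtain ⟨f, d, e, j, κ, z, rfl, f0, e0, ed, h1, j0, jf, -, -, k0, h2, h3, -⟩ := prim_data h hp hV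
    refine (cost_e k0 h2 h3).trans ?_
    rw [mul_assoc]
    refine mul_le_mul_of_nonneg_left ?_ c0
    norm_cast
    refine (Nat.mul_le_mul_right _ (Nat.pow_le_pow_left jf 2)).trans ?_
    by_cases h5 : f * d = 3 ∨ f * d = 4
    · have f4 : f ≤ 4 := by rcases h5 with h5 | h5 <;> nlinarith
      have d4 : d ≤ 4 := by rcases h5 with h5 | h5 <;> nlinarith
      have h6 := h1 3 Nat.prime_three
      interval_cases f <;> interval_cases d <;> interval_cases e <;> simp [cb, ce] at h5 h6 ⊢ <;>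
        split_ifs <;> omega
    · rw [cb, if_neg (by omega), if_neg (by omega)]
      refine (Nat.mul_le_mul (sq_le_nine f) (ce_le e)).trans ?_
      rw [← pow_add]
      refine Nat.pow_le_pow_right (by norm_num) ?_
      have : f + d ≤ f * d + 1 := by nlinarith [Nat.sub_add_cancel f0, Nat.sub_add_cancel (e0.trans_le ed)]
      omega

theorem cp_two {A V : Type u} [Group A] [Finite A] [Group.IsSolvable A] [AddCommGroup V] [Finite V]
    [DistribMulAction A V] [FaithfulSMul A V] {p : ℕ} (hp : p.Prime) (hV : Nat.card V = p ^ 2) (irr : Irr A V) :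
    1 ≤ commProb A * (128 / 23) ∨ ∃ z, z ∣ p - 1 ∧ Nat.card A = 24 * z ∧ 1 ≤ commProb A * 6 := by
  haveI : Nontrivial V := Finite.one_lt_card_iff_nontrivial.1 (hV ▸ Nat.one_lt_pow two_ne_zero hp.one_lt)
  have c0 := (commProb_pos A).le
  rcases dich' (A := A) (V := V) with ⟨W, h0, h1, hW⟩ | ⟨K, _, _, _, U, R, h⟩
  · obtain ⟨t, τ, w, t2, w2, e, h2, -, -, h4⟩ := imp_data irr h0 h1 hW
    obtain ⟨m, rfl, e, m0⟩ := pow_eq_pow hp t2 w2 (hV ▸ e)
    obtain rfl : m = 1 := by nlinarith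
    obtain rfl : t = 2 := by omega
    refine Or.inl ((h4 _ (Nat.cast_nonneg _) (cpB p hp 1 m0)).trans (mul_le_mul_of_nonneg_left ?_ c0))
    have : (τ : ℚ) ≤ 2 := by exact_mod_cast h2
    have : (0 : ℚ) ≤ τ := Nat.cast_nonneg _
    norm_num [cb]; nlinarith
  · obtain ⟨f, d, e, j, κ, z, e2, f0, e0, ed, -, j0, jf, h1, h4, k0, h2, h3, h5⟩ := prim_data h hp hV
    have f2 : f ≤ 2 := by nlinarith
    by_cases e1 : e = 1
    · refine Or.inl ((cost_e k0 h2 h3).trans ?_)
      rw [mul_assoc]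
      refine mul_le_mul_of_nonneg_left ?_ c0
      have : (j : ℚ) ≤ 2 := by exact_mod_cast jf.trans f2
      have : (0 : ℚ) ≤ j := Nat.cast_nonneg _
      norm_num [e1, ce]; nlinarith
    obtain rfl : f = 1 := by nlinarith [show 2 ≤ d by omega]
    obtain rfl : j = 1 := by omega
    rcases h5 (by omega) with h6 | ⟨rfl, h6⟩
    · left
      have := cost_of (x := 128 / 23) (B := 16) (by exact_mod_cast k0) (by exact_mod_cast h6) (by norm_num)
        (by norm_num) h3
      simpa using this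
    · exact Or.inr ⟨z, by simpa using h1, by simpa using h4, by simpa using h6⟩

theorem fin_of_cost {A : Type*} [Group A] [Finite A] {p k o P : ℕ} {c : ℚ} (c0 : 0 < c)
    (h1 : 1 ≤ commProb A * c) (h2 : 2401 * p ^ 2 * c ≤ 14400 * P) (h3 : Nat.card (ConjClasses A) + o ≤ k)
    (h4 : P ≤ o * Nat.card A) : 49 * p ≤ 60 * k := by
  have hA : (0 : ℚ) < Nat.card A := by exact_mod_cast Nat.card_pos
  rw [commProb_def', div_mul_eq_mul_div, one_le_div hA] at h1
  have h5 : (P : ℚ) ≤ o * Nat.card A := by exact_mod_cast h4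
  have h6 : (2401 * p ^ 2 : ℚ) ≤ 14400 * (o * Nat.card (ConjClasses A)) := by
    refine le_of_mul_le_mul_right ?_ c0
    nlinarith [mul_le_mul_of_nonneg_left h1 (Nat.cast_nonneg (α := ℚ) o)]
  have h7 : 2401 * p ^ 2 ≤ 14400 * (o * Nat.card (ConjClasses A)) := by exact_mod_cast h6
  refine (Nat.pow_le_pow_iff_left two_ne_zero).1 ?_
  have h8 := Nat.pow_le_pow_left h3 2
  zify at h7 h8 ⊢
  nlinarith [sq_nonneg ((o : ℤ) - Nat.card (ConjClasses A))]

theorem big_arith {p n : ℕ} (hp : 11 ≤ p) (hn : 3 ≤ n) : 2401 * p ^ 2 * cb p n + 14400 ≤ 14400 * p ^ n := by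
  by_cases h3 : n = 3
  · subst h3
    rw [cb, if_pos rfl]
    split_ifs with h
    · have : 13 ≤ p := by omega
      nlinarith [Nat.mul_le_mul_left (p ^ 2) this]
    · nlinarith [Nat.mul_le_mul_left (p ^ 2) hp]
  by_cases h4 : n = 4
  · subst h4
    have := Nat.pow_le_pow_left hp 2
    rw [cb, if_neg h3, if_pos rfl]
    nlinarith [Nat.mul_le_mul_left (p ^ 2) this]
  rw [cb, if_neg h3, if_neg h4]
  have h5 : 5 ≤ n := by omega
  clear h3 h4 hn
  induction n, h5 using Nat.le_induction with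
  | base =>
    have h1 := Nat.mul_le_mul_left (p ^ 2) (Nat.pow_le_pow_left hp 3)
    have h2 := Nat.pow_le_pow_left hp 2
    rw [← pow_add] at h1
    norm_num at h1 h2 ⊢
    linarith
  | succ n h ih =>
    rw [show n + 1 - 1 = n - 1 + 1 by omega, pow_succ 9, pow_succ p n, ← mul_assoc]
    have := Nat.mul_le_mul_left (p ^ n) hp
    omega

theorem main_lin {A V : Type u} [Group A] [Finite A] [Group.IsSolvable A] [AddCommGroup V] [Finite V]
    [DistribMulAction A V] [FaithfulSMul A V] {p n k o : ℕ} (hp : p.Prime) (hn : 2 ≤ n)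
    (hV : Nat.card V = p ^ n) (irr : Irr A V) (h3 : Nat.card (ConjClasses A) + o ≤ k)
    (h4 : p ^ n ≤ o * Nat.card A + 1) : 49 * p ≤ 60 * k := by
  have p2 := hp.two_le
  have h5 : p ^ 2 ≤ p ^ n := Nat.pow_le_pow_right hp.pos hn
  by_cases hA : Nat.card A = 1
  · rw [hA] at h4; nlinarith
  have k2 := two_le_classes hA
  have o1 : 0 < o := Nat.pos_of_ne_zero fun e => by rw [e] at h4; nlinarith
  by_cases p3 : p ≤ 3
  · omega
  have p5 : 5 ≤ p := hp.five_le_of_ne_two_of_ne_three (by omega) (by omega)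
  have h6 : p ^ n - 1 ≤ o * Nat.card A := by omega
  have h7 : ((p ^ n - 1 : ℕ) : ℚ) = p ^ n - 1 := by
    rw [Nat.cast_sub (Nat.one_le_pow _ _ hp.pos)]; simp
  by_cases n2 : n = 2
  · subst n2
    rcases cp_two hp hV irr with h | ⟨z, ⟨s, hs⟩, h1, h2⟩
    · refine fin_of_cost (by norm_num) h ?_ h3 h6
      have : (5 : ℚ) ≤ p := by exact_mod_cast p5
      rw [h7]; nlinarith
    · have hA : (0 : ℚ) < Nat.card A := by exact_mod_cast Nat.card_pos
      rw [commProb_def', div_mul_eq_mul_div, one_le_div hA] at h2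
      have h8 : Nat.card A ≤ Nat.card (ConjClasses A) * 6 := by exact_mod_cast h2
      obtain rfl : p = z * s + 1 := by omega
      have z0 : 0 < z := Nat.pos_of_ne_zero fun e => by simp [e] at p2
      have h9 : s * (z * s + 2) ≤ 24 * o := Nat.le_of_mul_le_mul_left (by rw [h1] at h4; nlinarith) z0
      rcases Nat.lt_or_ge s 10 with h10 | h10
      · obtain rfl | rfl | h11 : z = 1 ∨ z = 2 ∨ 3 ≤ z := by omega
        all_goals interval_cases s <;> omega
      · obtain ⟨s, rfl⟩ := Nat.exists_eq_add_of_le h10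
        nlinarith [Nat.zero_le (z * s), Nat.zero_le (z * s * s)]
  have n3 : 3 ≤ n := by omega
  by_cases p11 : 11 ≤ p
  · refine fin_of_cost (by
      have := cpB.{u} p hp n (by omega) A V hV irr
      by_contra! hc
      have := mul_nonpos_of_nonneg_of_nonpos (commProb_pos A).le hc
      linarith) (cpB p hp n (by omega) A V hV irr) ?_ h3 h6
    have : ((2401 * p ^ 2 * cb p n + 14400 : ℕ) : ℚ) ≤ (14400 * p ^ n : ℕ) := by
      exact_mod_cast big_arith p11 n3
    push_cast at this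
    rw [h7]; linarith
  have p7 : p = 5 ∨ p = 7 := by
    have : p < 11 := by omega
    interval_cases p <;> simp_all (config := {decide := true})
  have h8 : p ^ 3 ≤ p ^ n := Nat.pow_le_pow_right hp.pos n3
  by_cases k4 : Nat.card (ConjClasses A) ≤ 4
  · have := Nat.mul_le_mul_left o (card_le_of_classes k4)
    rcases p7 with rfl | rfl <;> omega
  · omega

end Cfsg.Lib.KP
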