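import Cfsg.Agent.Lib.KP.Lin
import Cfsg.Agent.Lib.Core.Fitting

/-!
A solvable group of order divisible by `p ^ 2` has at least `49 p / 60` conjugacy classes.
-/

set_option autoImplicit false
set_option linter.style.haveILetI false
set_option linter.unusedSectionVars false

namespace Cfsg.Lib.KP

open Subgroup MulAction Cfsg.Lib.SL
open scoped commutatorElement

universe u

variable {G : Type u} [Group G] [Finite G]

theorem mem_ker_conj {N : Subgroup G} [N.Normal] {g : G} :
    g ∈ (MulAut.conjNormal : G →* MulAut N).ker ↔ g ∈ centralizer (N : Set G) := by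
  rw [MonoidHom.mem_ker, mem_centralizer_iff]
  refine ⟨fun e n hn => ?_, fun e => MulEquiv.ext fun n => Subtype.ext ?_⟩
  · have : g * n * g⁻¹ = n := (congrArg Subtype.val (DFunLike.congr_fun e ⟨n, hn⟩) :)
    exact (mul_inv_eq_iff_eq_mul.1 this).symm
  · exact mul_inv_eq_iff_eq_mul.2 (e n n.2).symm

theorem comm_le_cent {N : Subgroup G} [N.Normal] [hN : IsCyclic N] : commutator G ≤ centralizer (N : Set G) := by
  letI := (hN.mulAutMulEquiv _).toMonoidHom.commGroupOfInjective (hN.mulAutMulEquiv _).injective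
  exact fun g hg => mem_ker_conj.1 (Abelianization.commutator_subset_ker _ hg)

omit [Finite G] in
theorem pow_mul_of {x y c : G} (h : x * y = y * x * c) (hc : Commute c x) (j : ℕ) :
    x ^ j * y = y * x ^ j * c ^ j := by
  induction j with
  | zero => simp
  | succ j ih =>
    rw [pow_succ', mul_assoc, ih, ← mul_assoc, ← mul_assoc, h, mul_assoc _ c, (hc.pow_right j).eq, pow_succ' c]
    simp only [mul_assoc]

theorem classes_quot_le (N : Subgroup G) [N.Normal] :
    Nat.card (ConjClasses (G ⧸ N)) ≤ Nat.card (ConjClasses G) :=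
  Nat.card_le_card_of_surjective (f := ConjClasses.map (QuotientGroup.mk' N))
    (ConjClasses.map_surjective (QuotientGroup.mk'_surjective N))

/-- the module attached to an abelian minimal normal subgroup -/
theorem of_min [Group.IsSolvable G] {V : Subgroup G} [V.Normal] (hc : V ≤ centralizer (V : Set G))
    (hm : ∀ W : Subgroup G, W.Normal → W ≤ V → W = ⊥ ∨ W = V) {p n : ℕ} (hp : p.Prime) (hn : 2 ≤ n)
    (hV : Nat.card V = p ^ n) : 49 * p ≤ 60 * Nat.card (ConjClasses G) := by
  let φ : G →* MulAut V := MulAut.conjNormal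
  obtain ⟨o, h1, h2⟩ := exists_orb φ.ker V inferInstance (fun v hv => mem_ker_conj.2 (hc hv))
    fun g hg => mem_ker_conj.1 hg
  letI : CommGroup V := { (inferInstance : Group V) with mul_comm := fun a b => Subtype.ext (hc b.2 a a.2) }
  let ψ := QuotientGroup.kerLift φ
  letI : DistribMulAction (G ⧸ φ.ker) (Additive V) :=
    { smul := fun g u => Additive.ofMul (ψ g u.toMul)
      one_smul := fun u => by change Additive.ofMul (ψ 1 u.toMul) = _; simp
      mul_smul := fun g g' u => by change Additive.ofMul (ψ (g * g') u.toMul) = _; rw [map_mul]; rfl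
      smul_zero := fun g => congrArg Additive.ofMul (map_one _)
      smul_add := fun g u u' => congrArg Additive.ofMul (map_mul _ _ _) }
  haveI : FaithfulSMul (G ⧸ φ.ker) (Additive V) := ⟨fun {a b} e =>
    QuotientGroup.kerLift_injective φ (MulEquiv.ext fun v => e (Additive.ofMul v))⟩
  refine main_lin (A := G ⧸ φ.ker) (V := Additive V) hp hn hV (fun W hW => ?_) h1 (hV ▸ h2)
  refine (hm (W.toSubgroup'.map V.subtype) ⟨?_⟩ (map_subtype_le _)).imp (fun e => eq_bot_iff.2 fun w hw =>
    Subtype.ext (e.le ⟨w, hw, rfl⟩)) fun e => eq_top_iff.2 fun u _ => ?_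
  · rintro _ ⟨w, hw, rfl⟩ g
    exact ⟨_, hW (g : G ⧸ φ.ker) (Additive.ofMul w) hw, rfl⟩
  · obtain ⟨w, hw, e⟩ := e.ge u.toMul.2
    obtain rfl : w = u.toMul := Subtype.ext e
    exact hw

theorem main [Group.IsSolvable G] {p : ℕ} (hp : p.Prime) (h : p ^ 2 ∣ Nat.card G) :
    49 * p ≤ 60 * Nat.card (ConjClasses G) := by
  haveI := Fact.mk hp
  induction hn : Nat.card G using Nat.strong_induction_on generalizing G with
  | _ n ih =>
  by_contra hlt
  have H : ∀ N : Subgroup G, N.Normal → N ≠ ⊥ → ¬ p ^ 2 ∣ N.index := fun N _ h0 hd => hlt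
    ((ih _ (by
      have := N.card_mul_index
      have h1 := (one_lt_card_iff_ne_bot N).2 h0
      have h2 : 0 < N.index := Nat.pos_of_ne_zero index_ne_zero_of_finite
      change N.index < n
      nlinarith) (G := G ⧸ N) hd rfl).trans (Nat.mul_le_mul_left _ (classes_quot_le N)))
  have hO : pPrimeCore p G = ⊥ := by
    by_contra h0
    refine H _ inferInstance h0 (((Core.pPrimeCore_coprime p G).symm.pow_left 2).dvd_of_dvd_mul_left ?_)
    rwa [card_mul_index]
  have hC := Core.centralizer_pCore_le_of_isSolvable hO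
  have p1 : 1 < p ^ 2 := Nat.one_lt_pow two_ne_zero hp.one_lt
  have hF : pCore p G ≠ ⊥ := fun e => by
    rw [e, coe_bot, centralizer_eq_top_iff_subset.2 (by simp), top_le_iff] at hC
    have := (⊥ : Subgroup G).card_mul_index
    rw [card_bot, hC, index_top] at this
    rw [← this] at h
    exact p1.ne' (Nat.dvd_one.1 h)
  obtain ⟨V, hVF, hV⟩ := Finite.exists_le_minimal (p := fun B : Subgroup G => B.Normal ∧ B ≠ ⊥)
    (a := pCore p G) ⟨inferInstance, hF⟩
  haveI := hV.prop.1
  have hm : ∀ W : Subgroup G, W.Normal → W ≤ V → W = ⊥ ∨ W = V := fun W nW hW =>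
    or_iff_not_imp_left.2 fun h0 => le_antisymm hW (hV.le_of_le ⟨nW, h0⟩ hW)
  have hc : V ≤ centralizer (V : Set G) := commutator_eq_bot_iff_le_centralizer.1
    ((hm _ inferInstance (commutator_le_left V V)).resolve_right 
      (Group.IsSolvable.commutator_lt_of_ne_bot hV.prop.2).ne)
  obtain ⟨k, hk⟩ := IsPGroup.iff_card.1 ((Core.pCore_isPGroup p G).to_le hVF)
  by_cases k2 : 2 ≤ k
  · exact hlt (of_min hc hm hp k2 hk)
  obtain rfl : k = 1 := by
    have := (one_lt_card_iff_ne_bot V).2 hV.prop.2
    rcases k with _ | _ | k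
    · simp [hk] at this
    · rfl
    · omega
  rw [pow_one] at hk
  haveI := isCyclic_of_prime_card hk
  obtain ⟨m, hm'⟩ := Core.card_pCore_eq_pow (G := G) p
  have h1 := H V inferInstance hV.prop.2
  have h2 := relIndex_mul_index hVF
  have h3 : p * V.relIndex (pCore p G) = p ^ m := by
    have := relIndex_mul_relIndex _ _ _ bot_le hVF
    rwa [relIndex_bot_left, relIndex_bot_left, hk, hm'] at this
  obtain ⟨m, rfl⟩ : ∃ l, m = l + 1 := ⟨m - 1, by
    rcases m with _ | m
    · exact (hp.one_lt.ne' (Nat.eq_one_of_mul_eq_one_right h3)).elim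
    · rfl⟩
  rw [pow_succ', Nat.mul_right_inj hp.ne_zero] at h3
  obtain rfl : m = 1 := by
    rcases m with _ | _ | m
    · have h4 : V = pCore p G := le_antisymm hVF (relIndex_eq_one.1 h3)
      have h5 : V.index ∣ p - 1 := by
        rw [← Nat.totient_prime hp, ← hk, ← IsCyclic.card_mulAut]
        refine (index_dvd_of_le (H := (MulAut.conjNormal : G →* MulAut V).ker)
          fun g hg => h4 ▸ hC (h4 ▸ mem_ker_conj.1 hg)).trans ?_
        rw [index_ker]
        exact card_subgroup_dvd_card _
      rw [← V.card_mul_index, hk, sq, Nat.mul_dvd_mul_iff_left hp.pos] at h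
      have := Nat.le_of_dvd (by have := hp.two_le; omega) (h.trans h5)
      have := hp.two_le
      omega
    · rfl
    · exact (h1 (h2 ▸ h3 ▸ (pow_dvd_pow p (by omega)).mul_right _)).elim
  rw [pow_one] at h3
  have h4 : ¬ p ∣ (pCore p G).index := fun e => h1 (by
    rw [← h2, h3, sq]; exact Nat.mul_dvd_mul_left p e)
  have h5 : pCore p G ≤ centralizer (pCore p G : Set G) := fun a ha b hb => congrArg Subtype.val
    ((IsPGroup.isMulCommutative_of_card_eq_prime_sq hm').is_comm.comm (⟨b, hb⟩ : pCore p G) ⟨a, ha⟩)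
  have h6 : commutator G ≤ pCore p G := fun x hx => by
    let W := (pCore p G).map (QuotientGroup.mk' V)
    haveI : W.Normal := Subgroup.Normal.map inferInstance _ (QuotientGroup.mk'_surjective _)
    haveI : IsCyclic W := isCyclic_of_prime_card (p := p) (by
      rw [← relIndex_ker, QuotientGroup.ker_mk', h3])
    have e1 : x ∈ centralizer (V : Set G) := comm_le_cent hx
    have e2 : (x : G ⧸ V) ∈ centralizer (W : Set (G ⧸ V)) := comm_le_cent (by
      have := mem_map_of_mem (QuotientGroup.mk' V) hx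
      rwa [_root_.commutator_def, map_commutator, ← MonoidHom.range_eq_map, QuotientGroup.range_mk'] at this)
    have e3 : x ^ p ∈ pCore p G := hC fun y hy => by
      have e4 : (y * x)⁻¹ * (x * y) ∈ V := QuotientGroup.eq.1 (e2 y ⟨y, hy, rfl⟩)
      have e5 := pow_mul_of (x := x) (y := y) (by group) (e1 _ e4)
      have e6 : ((y * x)⁻¹ * (x * y)) ^ p = 1 := by
        have := pow_card_eq_one' (x := (⟨_, e4⟩ : V))
        rw [hk] at this
        exact congrArg Subtype.val this
      rw [e5, e6, mul_one]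
    rw [← QuotientGroup.eq_one_iff] at e3 ⊢
    exact (pow_eq_one_iff_of_coprime (hp.coprime_iff_not_dvd.2 h4)).1 ⟨e3, pow_card_eq_one'⟩
  obtain ⟨o, h7, h8⟩ := exists_orb (pCore p G) (pCore p G) inferInstance le_rfl h5
  refine hlt (fin_of_cost (P := p ^ 2 - 1) one_pos (by
    rw [commProb_eq_one_iff.2 (Normal.quotient_commutative_iff_commutator_le.2 h6), one_mul]) ?_ h7 (by
      rw [hm'] at h8; exact Nat.sub_le_iff_le_add.2 h8))
  have : (2 : ℚ) ≤ p := by exact_mod_cast hp.two_le
  rw [Nat.cast_sub p1.le]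
  push_cast
  nlinarith

end Cfsg.Lib.KP
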