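import Cfsg.Agent.Lib.KP.Prim1

/-!
Completely reducible solvable linear groups on at most sixteen vectors in characteristic two.
-/

set_option autoImplicit false
set_option linter.style.haveILetI false
set_option linter.unusedSectionVars false

namespace Cfsg.Lib.KP

open Subgroup MulAction Cfsg.Lib.SL

universe u

section

variable {A V K : Type*} [Group A] [AddCommGroup V] [DistribMulAction A V] [Field K] [Module K V]
  {U R : Subgroup A} (h : Pr V K U R) [Nontrivial V] [FaithfulSMul A V] [Finite A] [Finite V] [Finite K]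

include h

theorem U_le_lin : U ≤ lin A V K := h.ur.le.trans (R_le_lin h)

theorem card_A : Nat.card A = (lin A V K).index * U.relIndex (lin A V K) * Nat.card U := by
  rw [mul_comm (lin A V K).index, relIndex_mul_index (U_le_lin h), index_mul_card]

theorem kap_eq : U.relIndex (lin A V K) = U.relIndex R * R.relIndex (lin A V K) :=
  (relIndex_mul_relIndex _ _ _ h.ur.le (R_le_lin h)).symm

theorem kap_one (e : U.relIndex R = 1) : U.relIndex (lin A V K) = 1 :=
  relIndex_eq_one.2 fun a ha => relIndex_eq_one.1 e (mem_R_of h ha fun r hr =>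
    relIndex_eq_one.1 e (mul_mem (inv_mem hr) (h.ur.nR.conj_mem r hr a)))

theorem prim0 {p n : ℕ} (hp : p.Prime) (hV : Nat.card V = p ^ n) : ∃ f d e : ℕ, n = f * d ∧ 0 < f ∧ 0 < e ∧
    e ≤ d ∧ U.relIndex R = e ^ 2 ∧ (∀ r, r.Prime → r ∣ e → r ∣ p ^ f - 1) ∧ (lin A V K).index ≤ f ∧
    Nat.card U ∣ p ^ f - 1 ∧ ∃ M : Subgroup A, U ≤ M ∧ M ≤ R ∧ M.relIndex R = e ∧ U.relIndex M = e := by
  haveI := Module.Finite.of_finite (R := K) (M := V)
  have h1 := Module.natCard_eq_pow_finrank (K := K) (V := V)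
  obtain ⟨f, -, hf⟩ := (Nat.dvd_prime_pow hp).1 (hV ▸ h1 ▸ dvd_pow_self (Nat.card K)
    (Module.finrank_pos (R := K) (M := V)).ne')
  obtain ⟨M, h2, h3, h4⟩ := exists_M h
  have h5 : U.relIndex R = U.relIndex M ^ 2 := by rw [← relIndex_mul_relIndex _ _ _ h2 h3, h4, sq]
  refine ⟨f, Module.finrank K V, U.relIndex M, Nat.pow_right_injective hp.two_le ?_, ?_,
    Nat.pos_of_ne_zero index_ne_zero_of_finite, ?_, h5, fun r hr hd => ?_, lin_index h hp hf,
    hf ▸ card_U_dvd h, M, h2, h3, h4, rfl⟩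
  · change p ^ n = p ^ _
    rw [← hV, h1, hf, pow_mul]
  · have := Finite.one_lt_card (α := K)
    exact Nat.pos_of_ne_zero fun e => by simp [hf, e] at this
  · exact (Nat.pow_le_pow_iff_left two_ne_zero).1 (h5 ▸ relIndex_le_sq h)
  · exact hf ▸ prime_dvd h hr (h5 ▸ hd.trans (dvd_pow_self _ two_ne_zero))

end

theorem pow_eq_pow {p n w t : ℕ} (hp : p.Prime) (ht : 2 ≤ t) (hw : 2 ≤ w) (h : p ^ n = w ^ t) :
    ∃ m, w = p ^ m ∧ n = m * t ∧ 0 < m := by
  obtain ⟨m, -, rfl⟩ := (Nat.dvd_prime_pow hp).1 (h ▸ dvd_pow_self w (by omega))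
  refine ⟨m, rfl, Nat.pow_right_injective hp.two_le (by simpa [pow_mul] using h), ?_⟩
  exact Nat.pos_of_ne_zero fun e => by simp [e] at hw

/-- order bounds -/
def b2 (n : ℕ) : ℕ := if n ≤ 1 then 1 else if n = 2 then 6 else if n = 3 then 24 else 72

theorem ordB_two (n : ℕ) (hn : n ≤ 4) : OrdB.{u} (2 ^ n) (b2 n) := by
  induction n using Nat.strong_induction_on with
  | _ n ih =>
  intro A V _ _ _ _ _ _ _ hV irr
  rcases subsingleton_or_nontrivial V with hs | hs
  · haveI : Subsingleton A := ⟨fun a b => eq_of_smul_eq_smul fun v : V => Subsingleton.elim _ _⟩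
    rw [Nat.card_of_subsingleton (1 : A)]
    unfold b2; split_ifs <;> omega
  rcases dich' (A := A) (V := V) with ⟨W, h0, h1, hW⟩ | ⟨K, _, _, _, U, R, h⟩
  · obtain ⟨t, τ, w, t2, w2, e, h2, -, h3, -⟩ := imp_data irr h0 h1 hW
    obtain ⟨m, rfl, rfl, m0⟩ := pow_eq_pow Nat.prime_two t2 w2 (hV ▸ e)
    have hm : m < m * t := by nlinarith
    refine (h3 _ (ih m hm (by omega))).trans ((Nat.mul_le_mul_right _ h2).trans ?_)
    have t4 : t ≤ 4 := by nlinarith
    have m2 : m ≤ 2 := by nlinarith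
    interval_cases m <;> interval_cases t <;> simp [b2, Nat.factorial] at hn ⊢
  · obtain ⟨f, d, e, rfl, f0, e0, ed, h1, h2, h3, h4, -⟩ := prim0 h Nat.prime_two hV
    have f4 : f ≤ 4 := by nlinarith
    have d4 : d ≤ 4 := by nlinarith
    have e1 : e = 1 := by
      by_contra hne
      have := h2 _ (Nat.minFac_prime hne) (Nat.minFac_dvd e)
      have e4 : e ≤ 4 := by omega
      interval_cases f <;> interval_cases d <;> interval_cases e <;> simp at this hne hn
    rw [card_A h, kap_one h (by rw [h1, e1]; rfl), mul_one]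
    have h5 := Nat.le_of_dvd (by have := Nat.one_lt_two_pow f0.ne'; omega) h4
    refine (Nat.mul_le_mul h3 h5).trans ?_
    have d0 : 0 < d := by omega
    interval_cases f <;> interval_cases d <;> simp [b2] at hn ⊢

theorem ord_cr {A : Type*} {V : Type u} [Group A] [Finite A] [Group.IsSolvable A] [AddCommGroup V] [Finite V]
    [DistribMulAction A V] (hV : Nat.card V = 16)
    (hcr : ∀ U : AddSubgroup V, (∀ a : A, ∀ v ∈ U, a • v ∈ U) →
      ∃ W : AddSubgroup V, (∀ a : A, ∀ w ∈ W, a • w ∈ W) ∧ U ⊓ W = ⊥ ∧ U ⊔ W = ⊤) : tau A V ≤ 72 := by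
  have cd : ∀ M : AddSubgroup V, ∃ n ≤ 4, Nat.card M = 2 ^ n := fun M =>
    (Nat.dvd_prime_pow Nat.prime_two).1 (by
      have := AddSubgroup.card_addSubgroup_dvd_card M
      rwa [hV] at this)
  suffices h : ∀ M : AddSubgroup V, (∀ a : A, ∀ v ∈ M, a • v ∈ M) → ∀ n ≤ 4, Nat.card M = 2 ^ n →
      (fixingSubgroup A (M : Set V)).index ≤ b2 n by
    have := h ⊤ (fun _ _ _ => trivial) 4 le_rfl (by rw [AddSubgroup.card_top, hV]; norm_num)
    refine le_trans (le_of_eq (congrArg Subgroup.index ?_)) this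
    ext a
    rw [mem_kerP, mem_fixingSubgroup_iff]
    simp
  intro M
  induction M using WellFoundedLT.induction with
  | ind M ih =>
  intro hM n hn hc
  by_cases h : ∃ U : AddSubgroup V, (∀ a : A, ∀ v ∈ U, a • v ∈ U) ∧ U ≠ ⊥ ∧ U < M
  · obtain ⟨U, hU, h0, h1⟩ := h
    obtain ⟨W, hW, h2, h3⟩ := hcr U hU
    have h4 : U ⊔ W ⊓ M = M := by rw [← sup_inf_assoc_of_le _ h1.le, h3, top_inf_eq]
    have h5 : W ⊓ M < M := lt_of_le_of_ne inf_le_right fun e => h0 (by
      rw [← h2, eq_comm, inf_eq_left]; exact h1.le.trans (e.ge.trans inf_le_left))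
    obtain ⟨a, ha, ea⟩ := cd U
    obtain ⟨b, hb, eb⟩ := cd (W ⊓ M)
    have i1 := ih U h1 hU a ha ea
    have i2 := ih (W ⊓ M) h5 (fun a v hv => ⟨hW a v hv.1, hM a v hv.2⟩) b hb eb
    have h6 : Nat.card U * Nat.card ↥(W ⊓ M) ≤ Nat.card M := by
      rw [← Nat.card_prod]
      refine Nat.card_le_card_of_injective (fun x : U × ↥(W ⊓ M) =>
        (⟨x.1 + x.2, add_mem (h1.le x.1.2) x.2.2.2⟩ : M)) fun x y e => ?_
      have e1 : (x.1 : V) + x.2 = y.1 + y.2 := congrArg Subtype.val e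
      have e2 : (x.1 : V) - y.1 = 0 := AddSubgroup.mem_bot.1 (h2 ▸ AddSubgroup.mem_inf.2
        ⟨sub_mem x.1.2 y.1.2, by
          rw [show (x.1 : V) - y.1 = y.2 - x.2 by rw [sub_eq_sub_iff_add_eq_add, e1, add_comm]]
          exact sub_mem y.2.2.1 x.2.2.1⟩)
      have e3 := sub_eq_zero.1 e2
      exact Prod.ext (Subtype.ext e3) (Subtype.ext (add_left_cancel (e1.trans (e3 ▸ rfl))))
    rw [ea, eb, hc, ← pow_add, Nat.pow_le_pow_iff_right (by norm_num)] at h6
    have h7 : fixingSubgroup A (U : Set V) ⊓ fixingSubgroup A ((W ⊓ M : AddSubgroup V) : Set V) ≤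
        fixingSubgroup A (M : Set V) := fun g hg => (mem_fixingSubgroup_iff A).2 fun v hv => by
      obtain ⟨u, hu, w, hw, rfl⟩ := AddSubgroup.mem_sup.1 (h4.ge hv)
      rw [smul_add, (mem_fixingSubgroup_iff A).1 hg.1 u hu, (mem_fixingSubgroup_iff A).1 hg.2 w hw]
    have a0 : a < n := by
      have : Nat.card U < Nat.card M := Set.Finite.card_lt_card (Set.toFinite _) h1
      rwa [ea, hc, Nat.pow_lt_pow_iff_right (by norm_num)] at this
    have b0 : b < n := by
      have : Nat.card ↥(W ⊓ M) < Nat.card M := Set.Finite.card_lt_card (Set.toFinite _) h5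
      rwa [eb, hc, Nat.pow_lt_pow_iff_right (by norm_num)] at this
    refine (Nat.le_of_dvd (Nat.pos_of_ne_zero index_ne_zero_of_finite) (index_dvd_of_le h7)).trans
      (index_inf_le.trans ((Nat.mul_le_mul i1 i2).trans ?_))
    interval_cases n <;> interval_cases a <;> interval_cases b <;> simp [b2] at h6 ⊢
  · letI := invAct A M hM
    have := OrdB.tau (A := A) (V := M) (hc ▸ ordB_two n hn) fun U hU => by
      by_contra! hc
      refine h ⟨U.map M.subtype, ?_, ?_, lt_of_le_of_ne (AddSubgroup.map_subtype_le _) fun e => hc.2 ?_⟩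
      · rintro a _ ⟨w, hw, rfl⟩
        exact ⟨_, hU a w hw, rfl⟩
      · rw [Ne, AddSubgroup.map_eq_bot_iff_of_injective _ Subtype.val_injective]; exact hc.1
      · refine eq_top_iff.2 fun v _ => ?_
        obtain ⟨w, hw, e⟩ := e.ge v.2
        exact (Subtype.ext e : w = v) ▸ hw
    refine le_trans (le_of_eq (congrArg Subgroup.index ?_)) this
    ext a
    rw [mem_kerP, mem_fixingSubgroup_iff]
    exact ⟨fun e v => Subtype.ext (e v v.2), fun e v hv => congrArg Subtype.val (e ⟨v, hv⟩)⟩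

end Cfsg.Lib.KP
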