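import Cfsg.Agent.Lib.SL.Main

/-!
The order of a solvable permutation group of degree `n` is at most `3 ^ (n - 1)`.
-/

set_option autoImplicit false
set_option linter.style.haveILetI false

namespace Cfsg.Lib.KP

open Subgroup MulAction Cfsg.Lib.SL

universe u

/-- order of the induced permutation group -/
noncomputable abbrev tau (X I : Type*) [Group X] [MulAction X I] : ℕ := (toPermHom X I).ker.index

theorem mem_kerP {X I : Type*} [Group X] [MulAction X I] {a : X} :
    a ∈ (toPermHom X I).ker ↔ ∀ i : I, a • i = i :=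
  ⟨fun h i => DFunLike.congr_fun h i, fun h => Equiv.ext h⟩

theorem index_le_of_map {X T : Type*} [Group X] [Finite T] (N : Subgroup X) (f : X → T)
    (hf : ∀ a b, f a = f b → a⁻¹ * b ∈ N) : N.index ≤ Nat.card T :=
  Nat.card_le_card_of_injective (fun q : X ⧸ N => f q.out) fun q q' e => by
    rw [← q.out_eq, ← q'.out_eq]
    exact QuotientGroup.eq.2 (hf _ _ e)

theorem tau_le_of_map {X I T : Type*} [Group X] [MulAction X I] [Finite T] (f : X → T)
    (hf : ∀ a b, f a = f b → ∀ i : I, a • i = b • i) : tau X I ≤ Nat.card T :=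
  index_le_of_map _ f fun a b e => mem_kerP.2 fun i => by rw [mul_smul, ← hf a b e, inv_smul_smul]

theorem tau_dvd (X I : Type*) [Group X] [MulAction X I] [Finite I] : tau X I ∣ (Nat.card I).factorial := by
  rw [tau, index_ker, ← Nat.card_perm]
  exact card_subgroup_dvd_card _

theorem tau_le_fact (X I : Type*) [Group X] [MulAction X I] [Finite I] : tau X I ≤ (Nat.card I).factorial :=
  Nat.le_of_dvd (Nat.factorial_pos _) (tau_dvd X I)

theorem cyc_of_sqf {M : Type*} [CommGroup M] [Finite M] (h : Squarefree (Nat.card M)) : IsCyclic M :=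
  haveI := IsZGroup.of_squarefree h
  inferInstance

section

variable {H V : Type*} [Group H] [AddCommGroup V] [Finite V] [DistribMulAction H V]

theorem tau_sqf (h : Squarefree (Nat.card V)) : tau H V ≤ Nat.card V := by
  obtain ⟨g, hg⟩ := (cyc_of_sqf (M := Multiplicative V) h).exists_generator
  refine tau_le_of_map (fun a : H => a • g.toAdd) fun a b e v => ?_
  obtain ⟨k, hk⟩ := hg (Multiplicative.ofAdd v)
  have : v = k • g.toAdd := (congrArg Multiplicative.toAdd hk).symm
  rw [this, smul_comm a, smul_comm b, e]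

theorem tau_base {t : Fin 3 → V} (h : IsBase H t) : tau H V ≤ Nat.card V ^ 3 := by
  have := tau_le_of_map (I := V) (fun (a : H) i => a • t i) fun a b e v => by
    have := h (a⁻¹ * b) (fun i => by rw [mul_smul, ← congrFun e i, inv_smul_smul]) v
    rw [mul_smul, inv_smul_eq_iff] at this
    exact this.symm
  simpa [Nat.card_fun] using this

theorem tau_eight {t : Fin 3 → V} (h : IsBase H t) (h8 : Nat.card V = 8) : tau H V ≤ 210 := by
  classical
  haveI := Fintype.ofFinite V
  let T : Finset V := (Finset.univ.image t).erase 0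
  have hT : T.card ≤ 3 := (Finset.card_erase_le.trans Finset.card_image_le).trans (by simp)
  let f : H → (T ↪ {v : V // v ≠ 0}) := fun a => ⟨fun x => ⟨a • (x : V), fun e =>
    Finset.ne_of_mem_erase x.2 ((smul_eq_zero_iff_eq a).1 e)⟩, fun x y e =>
      Subtype.ext (smul_left_cancel a (congrArg Subtype.val e))⟩
  have := tau_le_of_map (I := V) f fun a b e v => by
    have := h (a⁻¹ * b) (fun i => by
      by_cases h0 : t i = 0
      · rw [h0, smul_zero]
      · have e1 : a • t i = b • t i := congrArg Subtype.val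
          (DFunLike.congr_fun e ⟨t i, Finset.mem_erase.2 ⟨h0, by simp⟩⟩)
        rw [mul_smul, ← e1, inv_smul_smul]) v
    rw [mul_smul, inv_smul_eq_iff] at this
    exact this.symm
  rw [Nat.card_eq_fintype_card, Fintype.card_embedding_eq, Fintype.card_subtype_compl,
    ← Nat.card_eq_fintype_card, h8, Fintype.card_coe] at this
  simp only [Fintype.card_unique] at this
  refine this.trans ?_
  generalize T.card = k at hT
  interval_cases k <;> simp [Nat.descFactorial]

end

theorem pow_four_le {n : ℕ} (h : 9 ≤ n) : 3 * n ^ 4 ≤ 3 ^ n := by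
  induction n, h using Nat.le_induction with
  | base => norm_num
  | succ n h ih =>
    have h1 : 9 * (n + 1) ≤ 10 * n := by omega
    have h2 := Nat.pow_le_pow_left h1 4
    rw [mul_pow, mul_pow] at h2
    rw [pow_succ 3 n]
    omega

theorem tau_le (X I : Type u) [Group X] [Finite X] [Group.IsSolvable X] [Finite I] [Nonempty I]
    [MulAction X I] : 3 * tau X I ≤ 3 ^ Nat.card I := by
  classical
  induction hn : Nat.card I using Nat.strong_induction_on generalizing X I with
  | _ n ih =>
  have n0 : 0 < n := hn ▸ Nat.card_pos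
  by_cases h4 : n ≤ 4
  · have := tau_le_fact X I
    rw [hn] at this
    interval_cases n <;> simp [Nat.factorial] at this ⊢ <;> omega
  by_cases prim : ∀ s : Setoid I, (∀ (a : X) i j, s i j → s (a • i) (a • j)) →
    (∀ i j, s i j → i = j) ∨ ∀ i j, s i j
  · by_cases hne : ∃ (a : X) (i : I), a • i ≠ i
    swap
    · push Not at hne
      have := tau_le_of_map (X := X) (I := I) (fun _ => ()) fun a b _ i => by rw [hne, hne]
      have h3 : 3 ^ 1 ≤ 3 ^ n := Nat.pow_le_pow_right (by norm_num) n0
      simp only [Nat.card_unique] at this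
      omega
    obtain ⟨H, V, _, _, _, _, _, e, -, -, h3, h5⟩ := exists_affine prim hne
    haveI := Finite.of_equiv _ e.symm
    have hV : Nat.card V = n := hn ▸ Nat.card_congr e
    choose t h hth using h5
    have h6 := tau_le_of_map (I := I) (fun a : X => (t a, (h a : H ⧸ (toPermHom H V).ker))) fun a b e' i => by
      obtain ⟨v, rfl⟩ := e.surjective i
      have e1 := mem_kerP.1 (QuotientGroup.eq.1 (congrArg Prod.snd e')) v
      rw [mul_smul, inv_smul_eq_iff] at e1
      rw [hth, hth, e1, show t a = t b from congrArg Prod.fst e']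
    rw [Nat.card_prod, hV] at h6
    change _ ≤ n * tau H V at h6
    obtain ⟨b, hb⟩ := base_three h3
    by_cases h9 : 9 ≤ n
    · have h7 := tau_base hb
      rw [hV] at h7
      refine le_trans ?_ (pow_four_le h9)
      nlinarith [Nat.mul_le_mul_left n h7]
    by_cases h8 : n = 8
    · have h7 := tau_eight hb (hV.trans h8)
      subst h8
      omega
    have h7 := tau_sqf (H := H) (V := V) (by
      rw [hV]
      obtain rfl | rfl | rfl : n = 5 ∨ n = 6 ∨ n = 7 := by omega
      · exact Nat.prime_five.squarefree
      · exact (Nat.squarefree_mul (by norm_num : Nat.Coprime 2 3)).2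
          ⟨Nat.prime_two.squarefree, Nat.prime_three.squarefree⟩
      · exact (by norm_num : Nat.Prime 7).squarefree)
    rw [hV] at h7
    obtain rfl | rfl | rfl : n = 5 ∨ n = 6 ∨ n = 7 := by omega
    all_goals omega
  push Not at prim
  obtain ⟨s, hs, ⟨i₁, i₂, h12, n12⟩, i₃, i₄, n34⟩ := prim
  letI : MulAction X (Quotient s) :=
    { smul := fun a => Quotient.map (a • ·) (hs a)
      one_smul := fun j => j.inductionOn fun i => congrArg (Quotient.mk s) (one_smul X i)
      mul_smul := fun a b j => j.inductionOn fun i => congrArg (Quotient.mk s) (mul_smul a b i) }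
  have mk : ∀ (a : X) i, Quotient.mk s (a • i) = a • Quotient.mk s i := fun _ _ => rfl
  haveI := Fintype.ofFinite I
  haveI := Fintype.ofFinite (Quotient s)
  have lt1 : Nat.card (Quotient s) < n := by
    rw [← hn, Nat.card_eq_fintype_card, Nat.card_eq_fintype_card]
    exact Fintype.card_lt_of_surjective_not_injective _ Quotient.mk_surjective
      fun e => n12 (e (Quotient.sound h12))
  haveI : Nonempty (Quotient s) := ⟨Quotient.mk s i₁⟩
  have h1 := ih _ lt1 X (Quotient s) rfl
  let K := (toPermHom X (Quotient s)).ker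
  let B : Quotient s → SubMulAction K I := fun j =>
    ⟨{i | Quotient.mk s i = j}, fun a i hi => (mk a i).trans (by rw [hi]; exact mem_kerP.1 a.2 j)⟩
  have h2 : ∀ j, 3 * tau K (B j) ≤ 3 ^ Nat.card (B j) := fun j => by
    have lt2 : Nat.card (B j) < n := hn ▸ Finite.card_subtype_lt (p := (· ∈ B j))
      (x := if i₃ ∈ B j then i₄ else i₃) (by
        split_ifs with h
        exacts [fun e => n34 (Quotient.exact (h.trans e.symm)), h])
    haveI : Nonempty (B j) := ⟨⟨j.out, j.out_eq⟩⟩
    exact ih _ lt2 K (B j) rfl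
  have h3 : (toPermHom X I).ker ≤ K := fun a ha => mem_kerP.2 fun j => j.inductionOn fun i => by
    rw [← mk, mem_kerP.1 ha]
  have h5 : (toPermHom X I).ker.relIndex K ≤ ∏ j, tau K (B j) := by
    refine le_trans (Nat.le_of_dvd (Nat.pos_of_ne_zero index_ne_zero_of_finite) (index_dvd_of_le ?_))
      (index_iInf_le fun j => (toPermHom K (B j)).ker)
    intro a ha
    exact mem_kerP.2 fun i => congrArg Subtype.val
      (mem_kerP.1 (mem_iInf.1 ha (Quotient.mk s i)) ⟨i, rfl⟩)
  have h6 : ∑ j, Nat.card (B j) = n := by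
    rw [← hn, ← Nat.card_sigma]
    exact Nat.card_congr (Equiv.sigmaFiberEquiv (Quotient.mk s))
  have h7 := Finset.prod_le_prod' (s := Finset.univ) fun j _ => h2 j
  rw [Finset.prod_mul_distrib, Finset.prod_const, Finset.prod_pow_eq_pow_sum, h6, Finset.card_univ,
    ← Nat.card_eq_fintype_card] at h7
  rw [tau, ← relIndex_mul_index h3]
  calc _ ≤ (∏ j, tau K (B j)) * (3 * tau X (Quotient s)) := by
        rw [mul_left_comm]; exact Nat.mul_le_mul_right _ h5
    _ ≤ (∏ j, tau K (B j)) * 3 ^ Nat.card (Quotient s) := Nat.mul_le_mul_left _ h1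
    _ ≤ _ := by rwa [mul_comm]

end Cfsg.Lib.KP
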