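import Cfsg.Agent.Lib.KP.Imp

/-!
Primitive solvable linear groups: the basic numerical data.
-/

set_option autoImplicit false
set_option linter.style.haveILetI false
set_option linter.unusedSectionVars false

namespace Cfsg.Lib.KP

open Subgroup MulAction Cfsg.Lib.SL

theorem card_ringHom_le {K : Type*} [Field K] [Finite K] {p f : ℕ} (hp : p.Prime) (h : Nat.card K = p ^ f) :
    Finite (K →+* K) ∧ Nat.card (K →+* K) ≤ f := by
  haveI := Fact.mk hp
  haveI := Fintype.ofFinite K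
  haveI : CharP K p := charP_of_card_eq_prime_pow (by rw [← Nat.card_eq_fintype_card, h])
  letI : Algebra (ZMod p) K := ZMod.algebra _ _
  haveI : Finite (K →+* K) := Finite.of_injective _ DFunLike.coe_injective
  refine ⟨inferInstance, ?_⟩
  have h1 : Module.finrank (ZMod p) K = f :=
    Nat.pow_right_injective hp.two_le ((FiniteField.pow_finrank_eq_natCard p K).trans h)
  haveI : Finite (K →ₐ[ZMod p] K) := Finite.of_injective _ DFunLike.coe_injective
  refine le_trans (Nat.card_le_card_of_surjective (fun σ : K →ₐ[ZMod p] K => (σ : K →+* K)) fun σ =>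
    ⟨⟨σ, fun c => DFunLike.congr_fun (Subsingleton.elim (σ.comp (algebraMap (ZMod p) K))
      (algebraMap (ZMod p) K)) c⟩, rfl⟩) ?_
  exact h1 ▸ card_algHom_le_finrank (ZMod p) K K

theorem le_div_minFac {d n : ℕ} (hn : n ≠ 0) (h : d ∣ n) (hne : d ≠ n) : d ≤ n / n.minFac := by
  obtain ⟨k, rfl⟩ := h
  have k2 : 2 ≤ k := by
    rcases k with _ | _ | k
    · simp at hn
    · simp at hne
    · omega
  exact (Nat.le_div_iff_mul_le (Nat.minFac_pos _)).2
    (Nat.mul_le_mul_left _ (Nat.minFac_le_of_dvd k2 (dvd_mul_left _ _)))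

variable {A V K : Type*} [Group A] [AddCommGroup V] [DistribMulAction A V] [Field K] [Module K V]

variable (A V K) in
/-- the linear elements -/
def lin : Subgroup A where
  carrier := {a | ∀ (c : K) (v : V), a • c • v = c • a • v}
  one_mem' c v := by simp
  mul_mem' {a b} ha hb c v := by rw [mul_smul, hb, ha, mul_smul]
  inv_mem' {a} ha c v := by rw [inv_smul_eq_iff, ha, smul_inv_smul]

variable {U R : Subgroup A} (h : Pr V K U R) [Nontrivial V] [FaithfulSMul A V] [Finite A] [Finite V]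
  [Finite K]

/-- the commutator pairing -/
noncomputable def bt (r r' : A) : Kˣ := h.sy.β (emb A V r) (emb A V r')

include h

theorem lin_index {p f : ℕ} (hp : p.Prime) (hK : Nat.card K = p ^ f) : (lin A V K).index ≤ f := by
  obtain ⟨_, h1⟩ := card_ringHom_le hp hK
  choose σ hσ using h.semi
  refine le_trans (index_le_of_map _ σ fun a b e c v => ?_) h1
  rw [mul_smul, mul_smul, hσ, inv_smul_eq_iff, hσ, smul_inv_smul, e]

theorem R_le_lin : R ≤ lin A V K := fun r hr => h.lin r fun u hu => h.ur.cU u hu r hr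

theorem U_comm {u a : A} (hu : u ∈ U) (ha : a ∈ lin A V K) : a * u = u * a := by
  obtain ⟨c, hc⟩ := h.sc u hu
  exact eq_of_smul_eq_smul fun v : V => by rw [mul_smul, mul_smul, hc, hc, ha]

theorem card_U_dvd : Nat.card U ∣ Nat.card K - 1 := by
  choose c hc using fun u : U => h.sc' u.2
  let ι : U →* Kˣ := MonoidHom.mk' c fun a b => h.sy.s_inj (by
    change emb Kˣ V _ = emb Kˣ V _
    rw [map_mul, ← hc, ← hc, ← hc, ← map_mul]; rfl)
  rw [← Nat.card_units]
  exact card_dvd_of_injective ι fun a b e => Subtype.ext (emb_inj (V := V) (by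
    rw [hc, hc]; exact congrArg _ e))

theorem bt_mul_left {a b c : A} (ha : a ∈ R) (hb : b ∈ R) (hc : c ∈ R) :
    bt h (a * b) c = bt h a c * bt h b c := by
  rw [bt, map_mul]; exact Sy.β_mul_left (h.mem_R ha) (h.mem_R hb) (h.mem_R hc)

theorem bt_mul_right {a b c : A} (ha : a ∈ R) (hb : b ∈ R) (hc : c ∈ R) :
    bt h a (b * c) = bt h a b * bt h a c := by
  rw [bt, map_mul]; exact Sy.β_mul_right (h.mem_R ha) (h.mem_R hb) (h.mem_R hc)

theorem bt_eq_one {a b : A} (ha : a ∈ R) (hb : b ∈ R) : bt h a b = 1 ↔ a * b = b * a := by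
  rw [bt, Sy.β_eq_one_iff (h.mem_R ha) (h.mem_R hb), ← map_mul, ← map_mul, (emb_inj (V := V)).eq_iff]

theorem bt_conj {g a b : A} (hg : g ∈ lin A V K) (ha : a ∈ R) (hb : b ∈ R) :
    bt h (g * a * g⁻¹) (g * b * g⁻¹) = bt h a b := by
  simp only [bt, map_mul, map_inv]
  exact Sy.β_conj (h.norm g) hg (h.mem_R ha) (h.mem_R hb)

theorem bt_pow_left {a b : A} (ha : a ∈ R) (hb : b ∈ R) (k : ℕ) : bt h (a ^ k) b = bt h a b ^ k := by
  rw [bt, map_pow]; exact Sy.β_pow_left (h.mem_R ha) (h.mem_R hb) k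

theorem smul_smul_bt {a b : A} (ha : a ∈ R) (hb : b ∈ R) (v : V) :
    a • b • v = (bt h a b : K) • b • a • v := Sy.smul_smul_β (h.mem_R ha) (h.mem_R hb) v

theorem bt_left {a a' b : A} (ha : a ∈ R) (hb : b ∈ R) (e : a⁻¹ * a' ∈ U) : bt h a' b = bt h a b := by
  have := bt_mul_left h ha (h.ur.le e) hb
  rwa [mul_inv_cancel_left, (bt_eq_one h (h.ur.le e) hb).2 (h.ur.cU _ e _ hb), mul_one] at this

theorem bt_right {a b b' : A} (ha : a ∈ R) (hb : b ∈ R) (e : b⁻¹ * b' ∈ U) : bt h a b' = bt h a b := by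
  have := bt_mul_right h ha hb (h.ur.le e)
  rwa [mul_inv_cancel_left, (bt_eq_one h ha (h.ur.le e)).2 (h.ur.cU _ e _ ha).symm, mul_one] at this

theorem mem_R_of {a : A} (ha : a ∈ lin A V K) (e : ∀ r ∈ R, r⁻¹ * (a * r * a⁻¹) ∈ U) : a ∈ R := by
  refine h.mem_of ha ?_
  rintro _ ⟨c, r, hr, rfl⟩
  obtain ⟨t, ht⟩ := h.sc' (e r hr)
  refine ⟨t, ?_⟩
  have := Sy.Lin.comm (S := h.sy) (g := emb A V a) ha c
  change emb A V a * emb Kˣ V c = emb Kˣ V c * emb A V a at this
  change emb Kˣ V t = _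
  rw [← ht, ← mul_assoc (emb A V a), this]
  simp only [map_mul, map_inv]
  group

theorem normal_sub {B Y : Subgroup A} (hU : U ≤ B) (hY : Y ≤ R) (hB : B ≤ R) : (B.subgroupOf Y).Normal :=
  ⟨fun b hb y => by
    have := mul_mem (hU (h.ur.comm _ (hY y.2) _ (hB hb))) hb
    simpa [commutatorElement_def, mem_subgroupOf] using this⟩

theorem dual {X Y Y₀ : Subgroup A} (hX : X ≤ R) (hY : Y ≤ R) (hY₀ : Y₀ ≤ R) (hU : U ≤ Y₀)
    (hc : ∀ x ∈ X, ∀ y ∈ Y₀, y * x = x * y) : (centralizer (Y : Set A)).relIndex X ≤ Y₀.relIndex Y := by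
  haveI := normal_sub h hU hY hY₀
  let f : X → (Y →* Kˣ) := fun x => MonoidHom.mk' (fun y => bt h y x)
    fun a b => bt_mul_left h (hY a.2) (hY b.2) (hX x.2)
  let φ : X → (Y ⧸ Y₀.subgroupOf Y →* Kˣ) := fun x => QuotientGroup.lift _ (f x) fun y hy =>
    (bt_eq_one h (hY y.2) (hX x.2)).2 (hc x x.2 y hy)
  obtain ⟨hf, hc'⟩ := card_hom_le (Y ⧸ Y₀.subgroupOf Y) K
  refine le_trans (index_le_of_map _ φ fun a b e y hy => ?_) hc'
  have e1 : bt h y a = bt h y b := DFunLike.congr_fun e (QuotientGroup.mk (⟨y, hy⟩ : Y))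
  refine (bt_eq_one h (hY hy) (hX (a⁻¹ * b).2)).1 ?_
  have := bt_mul_right h (hY hy) (hX a.2) (hX (a⁻¹ * b).2)
  rw [← coe_mul, mul_inv_cancel_left, ← e1] at this
  exact (left_eq_mul.1 this)

theorem exists_M : ∃ M : Subgroup A, U ≤ M ∧ M ≤ R ∧ M.relIndex R = U.relIndex M := by
  obtain ⟨M, hUM, hM⟩ := Finite.exists_le_maximal
    (p := fun B : Subgroup A => B ≤ R ∧ B ≤ centralizer B) (a := U)
    ⟨h.ur.le, fun a ha b hb => h.ur.cU b hb a (h.ur.le ha)⟩
  have h1 : centralizer (M : Set A) ⊓ R = M := le_antisymm (fun c hc => by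
    have h4 : closure (M ∪ {c}) ≤ centralizer (M ∪ {c} : Set A) := (closure_le _).2 (by
      rintro a (ha | rfl) b (hb | rfl)
      exacts [hM.prop.2 ha b hb, (hc.1 a ha).symm, hc.1 b hb, rfl])
    exact hM.le_of_ge (y := closure (M ∪ {c})) ⟨(closure_le _).2 (Set.union_subset hM.prop.1
      (by simpa using hc.2)), by rwa [centralizer_closure]⟩ (fun u hu => subset_closure (Or.inl hu))
      (subset_closure (Or.inr rfl))) (le_inf hM.prop.2 hM.prop.1)
  have h2 : centralizer (R : Set A) ⊓ M = U := le_antisymm (fun c hc => h.ur.cR c hc.1)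
    (le_inf (fun u hu r hr => (h.ur.cU u hu r hr).symm) hUM)
  have h3 := dual h le_rfl hM.prop.1 h.ur.le le_rfl fun x hx y hy => h.ur.cU y hy x hx
  have h4 := dual h hM.prop.1 le_rfl hM.prop.1 hUM fun x hx y hy => hM.prop.2 hx y hy
  rw [← inf_relIndex_right, h1] at h3
  rw [← inf_relIndex_right, h2] at h4
  exact ⟨M, hUM, hM.prop.1, le_antisymm h3 h4⟩

theorem prime_dvd {r : ℕ} (hr : r.Prime) (hd : r ∣ U.relIndex R) : r ∣ Nat.card K - 1 := by
  haveI := Fact.mk hr
  haveI := h.ur.nU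
  obtain ⟨x, hx⟩ := exists_prime_orderOf_dvd_card' (G := R ⧸ U.subgroupOf R) r hd
  obtain ⟨x, rfl⟩ := QuotientGroup.mk_surjective x
  have h1 : (x : A) ∉ U := fun e => hr.one_lt.ne' (by
    rw [← hx, (QuotientGroup.eq_one_iff x).2 e, orderOf_one])
  have h2 : (x : A) ^ r ∈ U := by
    have := pow_orderOf_eq_one (x : R ⧸ U.subgroupOf R)
    rw [hx, ← QuotientGroup.mk_pow, QuotientGroup.eq_one_iff] at this
    exact this
  obtain ⟨y, hy, e⟩ : ∃ y ∈ R, bt h x y ≠ 1 := by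
    by_contra! hc
    exact h1 (h.ur.cR _ fun y hy => ((bt_eq_one h x.2 hy).1 (hc y hy)).symm)
  have h3 : orderOf (bt h x y) = r := orderOf_eq_prime (by
    rw [← bt_pow_left h x.2 hy, bt_eq_one h (h.ur.le h2) hy]; exact h.ur.cU _ h2 _ hy) e
  rw [← Nat.card_units, ← h3]
  exact orderOf_dvd_natCard _

theorem relIndex_le_sq : U.relIndex R ≤ Module.finrank K V ^ 2 := by
  classical
  haveI := h.ur.nU
  haveI := Module.Finite.of_finite (R := K) (M := V)
  haveI := Fintype.ofFinite (R ⧸ U.subgroupOf R)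
  let ρ : R ⧸ U.subgroupOf R → Module.End K V := fun x =>
    { toFun := fun v => (x.out : A) • v
      map_add' := smul_add _
      map_smul' := R_le_lin h x.out.2 }
  let χ : R ⧸ U.subgroupOf R → (R →* K) := fun x => (Units.coeHom K).comp
    (MonoidHom.mk' (fun g => bt h g x.out) fun a b => bt_mul_left h a.2 b.2 x.out.2)
  have hχ : Function.Injective χ := fun x y e => by
    rw [← x.out_eq, ← y.out_eq]
    refine QuotientGroup.eq.2 (h.ur.cR _ fun g hg => (bt_eq_one h hg (x.out⁻¹ * y.out).2).1 ?_)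
    have e1 : bt h g x.out = bt h g y.out := Units.ext (DFunLike.congr_fun e ⟨g, hg⟩ :)
    have := bt_mul_right h hg x.out.2 (x.out⁻¹ * y.out).2
    rw [← coe_mul, mul_inv_cancel_left, ← e1] at this
    exact (left_eq_mul.1 this)
  have li : LinearIndependent K ρ := Fintype.linearIndependent_iff.2 fun c hc x => by
    obtain ⟨v, hv⟩ := exists_ne (0 : V)
    obtain ⟨φ, hφ⟩ : ∃ φ : Module.Dual K V, φ ((x.out : A) • v) ≠ 0 := by
      by_contra! hh
      exact hv ((smul_eq_zero_iff_eq _).1 ((Module.forall_dual_apply_eq_zero_iff K _).1 hh))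
    have h1 := Fintype.linearIndependent_iff.1 ((linearIndependent_monoidHom R K).comp χ hχ)
      (fun y => c y * φ ((y.out : A) • v)) (funext fun g => by
        have e1 := congrArg (fun T : Module.End K V => φ ((g : A) • T ((g : A)⁻¹ • v))) hc
        simp only [LinearMap.sum_apply, LinearMap.smul_apply, LinearMap.zero_apply, smul_zero, map_zero,
          Finset.smul_sum, map_sum] at e1
        rw [Finset.sum_apply, Pi.zero_apply, ← e1]
        refine Finset.sum_congr rfl fun y _ => ?_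
        rw [R_le_lin h g.2]
        change _ = φ (c y • (g : A) • (y.out : A) • (g : A)⁻¹ • v)
        rw [smul_smul_bt h g.2 y.out.2, smul_inv_smul, φ.map_smul, φ.map_smul]
        change c y * φ ((y.out : A) • v) * (bt h g y.out : K) = c y * ((bt h g y.out : K) * _)
        ring) x
    exact (mul_eq_zero.1 h1).resolve_right hφ
  have := li.fintype_card_le_finrank
  rwa [Module.finrank_linearMap, ← sq, ← Nat.card_eq_fintype_card] at this

theorem fib_le {x : A} (hx : x ∈ R) (hU : x ∉ U) (c : Kˣ) :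
    Nat.card {y : R ⧸ U.subgroupOf R // bt h x y.out = c} ≤ U.relIndex R / (U.relIndex R).minFac := by
  haveI := h.ur.nU
  let χ : R ⧸ U.subgroupOf R →* Kˣ := QuotientGroup.lift _
    (MonoidHom.mk' (fun y : R => bt h x y) fun a b => bt_mul_right h hx a.2 b.2) fun y hy =>
      (bt_eq_one h hx y.2).2 (h.ur.cU _ hy _ hx).symm
  have h1 : ∀ y, χ y = bt h x y.out := fun y => by
    conv_lhs => rw [← y.out_eq']
    rfl
  have h2 : Nat.card χ.ker ≤ U.relIndex R / (U.relIndex R).minFac :=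
    le_div_minFac index_ne_zero_of_finite (card_subgroup_dvd_card _) fun e => hU (h.ur.cR _ fun r hr =>
      ((bt_eq_one h hx hr).1 ((eq_top_of_card_eq _ e).ge (mem_top (QuotientGroup.mk ⟨r, hr⟩)) :)).symm)
  refine le_trans ?_ h2
  rcases isEmpty_or_nonempty {y : R ⧸ U.subgroupOf R // bt h x y.out = c} with he | ⟨⟨y₀, h₀⟩⟩
  · simp
  refine Nat.card_le_card_of_injective (fun y => ⟨y₀⁻¹ * y.1, by
    rw [MonoidHom.mem_ker, map_mul, map_inv, h1, h1, h₀, y.2, inv_mul_cancel]⟩) fun y y' e =>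
    Subtype.ext (mul_left_cancel (congrArg Subtype.val e))

theorem count {ι : Type*} [Fintype ι] {r₀ : A} (h₀ : r₀ ∈ R) (hU : r₀ ∉ U) {r : ι → A} (hr : ∀ i, r i ∈ R)
    (H : ∀ a ∈ lin A V K, r₀⁻¹ * (a * r₀ * a⁻¹) ∈ U → (∀ i, (r i)⁻¹ * (a * r i * a⁻¹) ∈ U) → a ∈ R) :
    R.relIndex (lin A V K) ≤ (U.relIndex R - 1) * (U.relIndex R / (U.relIndex R).minFac) ^ Fintype.card ι := by
  classical
  haveI := h.ur.nU
  haveI := h.ur.nR
  haveI := Fintype.ofFinite (R ⧸ U.subgroupOf R)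
  let cj : A → (x : A) → x ∈ R → R ⧸ U.subgroupOf R := fun a x hx =>
    QuotientGroup.mk ⟨a * x * a⁻¹, h.ur.nR.conj_mem x hx a⟩
  have o1 : ∀ a x hx, (a * x * a⁻¹)⁻¹ * (cj a x hx).out ∈ U := fun a x hx =>
    (QuotientGroup.eq (s := U.subgroupOf R) (a := ⟨a * x * a⁻¹, h.ur.nR.conj_mem x hx a⟩)).1
      (cj a x hx).out_eq'.symm
  have o2 : ∀ a b x hx, cj a x hx = cj b x hx → x⁻¹ * (a⁻¹ * b * x * (a⁻¹ * b)⁻¹) ∈ U := fun a b x hx e => by
    have := h.ur.nU.conj_mem _ ((QuotientGroup.eq (s := U.subgroupOf R)).1 e) a⁻¹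
    change a⁻¹ * ((a * x * a⁻¹)⁻¹ * (b * x * b⁻¹)) * a⁻¹⁻¹ ∈ U at this
    convert this using 1
    group
  let T := Σ x : {x : R ⧸ U.subgroupOf R // x ≠ 1}, ∀ i,
    {y : R ⧸ U.subgroupOf R // bt h x.1.out y.out = bt h r₀ (r i)}
  let f : lin A V K → T := fun a => ⟨⟨cj a r₀ h₀, fun e => hU (by
    have := h.ur.nU.conj_mem _ ((QuotientGroup.eq_one_iff (N := U.subgroupOf R) _).1 e) (a : A)⁻¹
    simpa [mul_assoc] using this)⟩, fun i => ⟨cj a (r i) (hr i), by
      rw [bt_left h (h.ur.nR.conj_mem _ h₀ a) (cj a (r i) (hr i)).out.2 (o1 _ _ h₀),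
        bt_right h (h.ur.nR.conj_mem _ h₀ a) (h.ur.nR.conj_mem _ (hr i) a) (o1 _ _ (hr i)),
        bt_conj h a.2 h₀ (hr i)]⟩⟩
  refine le_trans (index_le_of_map _ f fun a b e => H _ (a⁻¹ * b).2
    (o2 a b r₀ h₀ (congrArg (fun t : T => t.1.1) e))
    fun i => o2 a b _ (hr i) (congrArg (fun t : T => (t.2 i).1) e)) ?_
  rw [Nat.card_sigma]
  refine le_trans (Finset.sum_le_card_nsmul _ _ ((U.relIndex R / (U.relIndex R).minFac) ^ Fintype.card ι)
    fun x _ => ?_) (le_of_eq ?_)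
  rotate_left
  · rw [Finset.card_univ, Fintype.card_subtype_compl, Fintype.card_subtype_eq,
      ← Nat.card_eq_fintype_card, smul_eq_mul]
    rfl
  rw [Nat.card_pi, ← Finset.card_univ]
  exact Finset.prod_le_pow_card _ _ _ fun i _ => fib_le h x.1.out.2 (fun e => x.2 (by
    rw [← x.1.out_eq']; exact (QuotientGroup.eq_one_iff _).2 e)) _

end Cfsg.Lib.KP
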