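import Cfsg.Agent.Lib.KP.Ord2
import Cfsg.Agent.Lib.Small.Four

/-!
Primitive solvable linear groups: bounds for the index of the scalars.
-/

set_option autoImplicit false
set_option linter.style.haveILetI false
set_option linter.unusedSectionVars false

namespace Cfsg.Lib.KP

open Subgroup MulAction Cfsg.Lib.SL
open scoped commutatorElement

universe u

variable {A : Type u} {V K : Type*} [Group A] [AddCommGroup V] [DistribMulAction A V] [Field K] [Module K V]
  {U R : Subgroup A} (h : Pr V K U R) [Nontrivial V] [FaithfulSMul A V] [Finite A] [Finite V] [Finite K]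

/-- commutative quotients -/
@[reducible] def cgQ {B Y : Subgroup A} (hU : U ≤ B) (hY : Y ≤ R) [(B.subgroupOf Y).Normal] :
    CommGroup (Y ⧸ B.subgroupOf Y) :=
  { (inferInstance : Group (Y ⧸ B.subgroupOf Y)) with
    mul_comm := fun a b => by
      obtain ⟨a, rfl⟩ := QuotientGroup.mk_surjective a
      obtain ⟨b, rfl⟩ := QuotientGroup.mk_surjective b
      rw [← QuotientGroup.mk_mul, ← QuotientGroup.mk_mul, QuotientGroup.eq]
      simpa [commutatorElement_def, mem_subgroupOf, mul_assoc] using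
        hU (h.ur.comm _ (hY (inv_mem b.2)) _ (hY (inv_mem a.2))) }

/-- elements fixed modulo `U` -/
def fx (a : A) : Subgroup A where
  carrier := {r | r⁻¹ * (a * r * a⁻¹) ∈ U}
  one_mem' := by simp
  mul_mem' {r s} hr hs := by
    have := mul_mem (h.ur.nU.conj_mem _ hr s⁻¹) hs
    change (r * s)⁻¹ * _ ∈ U
    convert this using 1
    group
  inv_mem' {r} hr := by
    have := h.ur.nU.conj_mem _ (inv_mem hr) r
    change r⁻¹⁻¹ * _ ∈ U
    convert this using 1
    group

include h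

theorem U_le_fx (a : A) : U ≤ fx h a := fun u hu => mul_mem (inv_mem hu) (h.ur.nU.conj_mem u hu a)

theorem exists_mod : ∃ (W : Type u) (_ : AddCommGroup W) (_ : Finite W) (_ : DistribMulAction A W),
    Nat.card W = U.relIndex R ∧ (∀ S : AddSubgroup W, (∀ a : A, ∀ v ∈ S, a • v ∈ S) →
      ∃ S' : AddSubgroup W, (∀ a : A, ∀ w ∈ S', a • w ∈ S') ∧ S ⊓ S' = ⊥ ∧ S ⊔ S' = ⊤) ∧
    ∃ π : R → W, Function.Surjective π ∧ ∀ (a : A) (r : R), a • π r = π r ↔ (r : A) ∈ fx h a := by
  haveI := h.ur.nU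
  haveI := h.ur.nR
  letI := cgQ h (B := U) le_rfl le_rfl
  let ψ : A → R ⧸ U.subgroupOf R →* R ⧸ U.subgroupOf R := fun a =>
    QuotientGroup.map _ _ (MulAut.conjNormal a : MulAut R).toMonoidHom fun n hn => h.ur.nU.conj_mem _ hn a
  letI : DistribMulAction A (Additive (R ⧸ U.subgroupOf R)) :=
    { smul := fun a v => Additive.ofMul (ψ a v.toMul)
      one_smul := fun v => QuotientGroup.induction_on v fun k =>
        congrArg QuotientGroup.mk (DFunLike.congr_fun (map_one (MulAut.conjNormal (H := R))) k)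
      mul_smul := fun a b v => QuotientGroup.induction_on v fun k =>
        congrArg QuotientGroup.mk (DFunLike.congr_fun (map_mul (MulAut.conjNormal (H := R)) a b) k)
      smul_zero := fun a => (ψ a).map_one
      smul_add := fun a => (ψ a).map_mul }
  let π : R → Additive (R ⧸ U.subgroupOf R) := fun r => Additive.ofMul (QuotientGroup.mk r)
  have hπ : Function.Surjective π := fun v => QuotientGroup.mk_surjective (s := U.subgroupOf R) v
  have sm : ∀ (a : A) (r : R), a • π r = π ⟨a * r * a⁻¹, h.ur.nR.conj_mem _ r.2 a⟩ := fun _ _ => rfl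
  have π0 : ∀ r : R, π r = 0 ↔ (r : A) ∈ U := fun r => QuotientGroup.eq_one_iff (N := U.subgroupOf R) r
  have πe : ∀ r s : R, π r = π s ↔ (r : A)⁻¹ * s ∈ U := fun r s => QuotientGroup.eq (s := U.subgroupOf R)
  refine ⟨Additive (R ⧸ U.subgroupOf R), inferInstance, inferInstance, inferInstance, rfl, fun S hS => ?_, π, hπ, fun a r => by
    rw [sm, eq_comm, πe]; rfl⟩
  let B : Subgroup A := (S.toSubgroup'.comap (QuotientGroup.mk' (U.subgroupOf R))).map R.subtype
  have hB : ∀ r : R, (r : A) ∈ B ↔ π r ∈ S := fun r =>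
    ⟨fun ⟨s, hs, e⟩ => (Subtype.ext e : s = r) ▸ hs, fun e => ⟨r, e, rfl⟩⟩
  have BR : B ≤ R := map_subtype_le _
  haveI nB : B.Normal := ⟨fun b hb a => (hB ⟨_, h.ur.nR.conj_mem _ (BR hb) a⟩).2
    (sm a ⟨b, BR hb⟩ ▸ hS a _ ((hB ⟨b, BR hb⟩).1 hb))⟩
  have UB : U ≤ B := fun u hu => (hB ⟨u, h.ur.le hu⟩).2 (((π0 ⟨u, h.ur.le hu⟩).2 hu).symm ▸ zero_mem S)
  let C := R ⊓ centralizer (B : Set A)
  have UC : U ≤ C := fun u hu => ⟨h.ur.le hu, fun b hb => (h.ur.cU u hu b (BR hb)).symm⟩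
  let S' : AddSubgroup (Additive (R ⧸ U.subgroupOf R)) :=
    ((C.subgroupOf R).map (QuotientGroup.mk' (U.subgroupOf R))).toAddSubgroup
  have hC : ∀ r : R, π r ∈ S' ↔ (r : A) ∈ C := fun r => ⟨fun ⟨s, hs, e⟩ =>
    (mul_mem_cancel_left (inv_mem hs)).1 (UC ((πe s r).1 e)), fun e => ⟨r, e, rfl⟩⟩
  refine ⟨S', fun a w hw => ?_, eq_bot_iff.2 fun w hw => ?_, eq_top_iff.2 fun w _ => ?_⟩
  · obtain ⟨r, rfl⟩ := hπ w
    exact sm a r ▸ (hC _).2 ((inferInstance : C.Normal).conj_mem _ ((hC r).1 hw) a)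
  · obtain ⟨r, rfl⟩ := hπ w
    exact (π0 r).2 (h.ur.center_le nB BR ((hB r).2 hw.1) ((hC r).1 hw.2).2)
  · obtain ⟨r, rfl⟩ := hπ w
    have h1 := h.eq_of_cent (B := B ⊔ C) (sup_le BR inf_le_left) (UB.trans le_sup_left) (fun c hc =>
      h.ur.center_le (B := C) inferInstance inf_le_left ⟨hc.1, fun b hb => hc.2 b (mem_sup_left hb)⟩
        fun b hb => hc.2 b (mem_sup_right hb)) r.2
    rw [← SetLike.mem_coe, mul_normal] at h1
    obtain ⟨b, hb, c, hc, e⟩ := h1
    have : π r = π ⟨b, BR hb⟩ + π ⟨c, hc.1⟩ := congrArg π (Subtype.ext e.symm : r = ⟨b, BR hb⟩ * ⟨c, hc.1⟩)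
    exact this ▸ AddSubgroup.add_mem_sup ((hB _).1 hb) ((hC _).2 hc)

theorem al_dvd {W : Type*} [MulAction A W] {π : R → W} (hπ : Function.Surjective π)
    (e : ∀ (a : A) (r : R), a • π r = π r ↔ (r : A) ∈ fx h a) : R.relIndex (lin A V K) ∣ tau A W := by
  refine Dvd.dvd.trans (dvd_of_eq ?_) (relIndex_dvd_index_of_normal (toPermHom A W).ker (lin A V K))
  refine congrArg index (Subgroup.ext fun a => ?_)
  rw [mem_subgroupOf, mem_subgroupOf, mem_kerP]
  refine ⟨fun ha w => ?_, fun ha => mem_R_of h a.2 fun r hr => (e a ⟨r, hr⟩).1 (ha _)⟩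
  obtain ⟨r, rfl⟩ := hπ w
  refine (e a r).2 ?_
  have := h.ur.comm _ (inv_mem r.2) _ ha
  change (r : A)⁻¹ * _ ∈ U
  simpa [commutatorElement_def, mul_assoc] using this

theorem al_four (e : U.relIndex R = 4) : R.relIndex (lin A V K) ∣ 24 := by
  obtain ⟨W, _, _, _, h1, -, π, h2, h3⟩ := exists_mod h
  have := (al_dvd h h2 h3).trans (tau_dvd A W)
  rwa [h1, e] at this

theorem gen {B Y : Subgroup A} (hU : U ≤ B) (hB : B ≤ R) (hY : Y ≤ R) (hs : Squarefree (B.relIndex Y)) :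
    ∃ x ∈ Y, ∀ y ∈ Y, ∃ k : ℤ, (x ^ k)⁻¹ * y ∈ B := by
  haveI := normal_sub h hU hY hB
  letI := cgQ h hU hY
  obtain ⟨x, hx⟩ := (cyc_of_sqf (M := Y ⧸ B.subgroupOf Y) hs).exists_generator
  obtain ⟨x, rfl⟩ := QuotientGroup.mk_surjective x
  refine ⟨x, x.2, fun y hy => ?_⟩
  obtain ⟨k, hk⟩ := hx (QuotientGroup.mk ⟨y, hy⟩)
  exact ⟨k, (QuotientGroup.eq (s := B.subgroupOf Y) (a := x ^ k)).1 hk⟩

theorem al_sqf {M : Subgroup A} (h1 : U ≤ M) (h2 : M ≤ R) {e : ℕ} (h3 : M.relIndex R = e)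
    (h4 : U.relIndex M = e) (hs : Squarefree e) (e1 : e ≠ 1) :
    R.relIndex (lin A V K) ≤ (U.relIndex R - 1) * (U.relIndex R / (U.relIndex R).minFac) := by
  obtain ⟨x, hx, gx⟩ := gen h le_rfl h.ur.le h2 (h4 ▸ hs)
  obtain ⟨y, hy, gy⟩ := gen h h1 h2 le_rfl (h3 ▸ hs)
  have := count h (ι := Unit) (h2 hx) (fun hU => e1 (h4 ▸ relIndex_eq_one.2 fun m hm => by
    obtain ⟨k, hk⟩ := gx m hm
    exact (mul_mem_cancel_left (inv_mem (zpow_mem hU k))).1 hk)) (r := fun _ => y) (fun _ => hy)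
    fun a ha e1 e2 => mem_R_of h ha fun r hr => by
      obtain ⟨k, hk⟩ := gy r hr
      obtain ⟨l, hl⟩ := gx _ hk
      exact (mul_mem_cancel_left (H := fx h a) (inv_mem (zpow_mem (show y ∈ fx h a from e2 ()) k))).1
        ((mul_mem_cancel_left (inv_mem (zpow_mem (show x ∈ fx h a from e1) l))).1 (U_le_fx h a hl))
  simpa using this

variable [Group.IsSolvable A]

theorem al_sixteen (e : U.relIndex R = 16) : R.relIndex (lin A V K) ≤ 72 := by
  obtain ⟨W, _, _, _, h1, h0, π, h2, h3⟩ := exists_mod h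
  exact (Nat.le_of_dvd (Nat.pos_of_ne_zero index_ne_zero_of_finite) (al_dvd h h2 h3)).trans
    (ord_cr (h1.trans e) h0)

theorem al_gen (e : 2 ≤ U.relIndex R) : 4 * R.relIndex (lin A V K) ≤ U.relIndex R ^ 3 := by
  obtain ⟨W, _, _, _, -, h0, π, h2, h3⟩ := exists_mod h
  obtain ⟨t, ht⟩ := base_cr (ι := Fin 3) (A := A) (fun _ _ _ _ => base_three) h0
  choose r hr using fun i => h2 (t i)
  have H : ∀ a ∈ lin A V K, (∀ i, (r i : A) ∈ fx h a) → a ∈ R := fun a ha e => mem_R_of h ha fun s hs =>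
    (h3 a ⟨s, hs⟩).1 (ht a (fun i => hr i ▸ (h3 a _).2 (e i)) _)
  by_cases hU : ∀ i, (r i : A) ∈ U
  · rw [relIndex_eq_one.2 fun a ha => H a ha fun i => U_le_fx h a (hU i)]
    exact le_trans (by norm_num) (Nat.pow_le_pow_left e 3)
  push Not at hU
  obtain ⟨i, hi⟩ := hU
  have h4 := count h (ι := Fin 2) (r i).2 hi (r := fun j => r (i.succAbove j)) (fun j => (r _).2)
    fun a ha e1 e2 => H a ha (Fin.succAboveCases i e1 e2)
  have h5 : 2 * (U.relIndex R / (U.relIndex R).minFac) ≤ U.relIndex R :=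
    (Nat.mul_le_mul_right _ (Nat.minFac_prime (by omega)).two_le).trans (Nat.mul_div_le _ _)
  rw [Fintype.card_fin] at h4
  have h6 := Nat.pow_le_pow_left h5 2
  calc _ ≤ (U.relIndex R - 1) * (2 * (U.relIndex R / (U.relIndex R).minFac)) ^ 2 := by
        rw [mul_pow]; nlinarith
    _ ≤ U.relIndex R * U.relIndex R ^ 2 := Nat.mul_le_mul (Nat.sub_le _ _) h6
    _ = _ := by ring

omit [Group.IsSolvable A] in
theorem ker_le_center [U.Normal] :
    (QuotientGroup.mk' (U.subgroupOf (lin A V K))).ker ≤ center (lin A V K) := fun u hu =>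
  mem_center_iff.2 fun a => Subtype.ext (U_comm h ((QuotientGroup.eq_one_iff u).1 hu) a.2)

omit [Group.IsSolvable A] in
theorem cp_three : 3 * (U.relIndex (lin A V K) : ℚ) - 2 ≤
    commProb A * (lin A V K).index ^ 2 * (U.relIndex (lin A V K) : ℚ) ^ 2 := by
  haveI := h.ur.nU
  exact (three_le_cp _ (QuotientGroup.mk'_surjective _) (ker_le_center h)).trans
    (mul_le_mul_of_nonneg_right (lin A V K).commProb_subgroup_le (sq_nonneg _))

omit [Group.IsSolvable A] in
theorem cp_six (e : U.relIndex R = 4) (e' : U.relIndex (lin A V K) = 24) :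
    1 ≤ commProb A * (lin A V K).index ^ 2 * 6 := by
  haveI := h.ur.nU
  haveI := h.ur.nR
  let π := QuotientGroup.mk' (U.subgroupOf (lin A V K))
  let W := (R.subgroupOf (lin A V K)).map π
  haveI nW : W.Normal := Subgroup.Normal.map inferInstance π (QuotientGroup.mk'_surjective _)
  have hW : Nat.card W = 4 := by
    rw [← relIndex_bot_left, ← e, ← relIndex_subgroupOf (R_le_lin h), ← relIndex_comap, MonoidHom.comap_bot,
      QuotientGroup.ker_mk']
  have sq : ∀ w : W, w ^ 2 = 1 := fun w => by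
    obtain ⟨n, hn, h1⟩ := h.ur.exists_sqf
    have h2 : orderOf w ∣ n := orderOf_dvd_of_pow_eq_one (Subtype.ext (by
      obtain ⟨_, r, hr, rfl⟩ := w
      exact (map_pow π r n).symm.trans ((QuotientGroup.eq_one_iff _).2 (h1 r hr))))
    have h3 : orderOf w ∣ 2 ^ 2 := (orderOf_dvd_natCard w).trans (by rw [hW]; rfl)
    exact orderOf_dvd_iff_pow_eq_one.1 (((hn.squarefree_of_dvd h2).dvd_pow_iff_dvd two_ne_zero).1 h3)
  haveI : Nontrivial W := Finite.one_lt_card_iff_nontrivial.1 (by omega)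
  have hK : IsKleinFour W := ⟨hW, (Monoid.exponent_eq_prime_iff Nat.prime_two).2 fun g hg =>
    orderOf_eq_prime (sq g) hg⟩
  have hC : centralizer (W : Set _) = W := by
    ext b
    obtain ⟨a, rfl⟩ := QuotientGroup.mk'_surjective _ b
    constructor
    · refine fun hb => ⟨a, mem_R_of h (a := a) a.2 fun r hr => ?_, rfl⟩
      have := hb _ ⟨⟨r, R_le_lin h hr⟩, hr, rfl⟩
      rw [← map_mul, ← map_mul, QuotientGroup.mk'_apply, QuotientGroup.mk'_apply, QuotientGroup.eq] at this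
      have := h.ur.nU.conj_mem _ this a
      change a * (((r : A) * a)⁻¹ * (a * r)) * (a : A)⁻¹ ∈ U at this
      convert this using 1
      group
    · rintro ⟨r, hr, e⟩ _ ⟨s, hs, rfl⟩
      rw [← e, ← map_mul, ← map_mul, QuotientGroup.mk'_apply, QuotientGroup.mk'_apply, QuotientGroup.eq]
      have := h.ur.comm _ (inv_mem hr) _ (inv_mem hs)
      simpa [commutatorElement_def, mem_subgroupOf, mul_assoc] using this
  obtain ⟨φ⟩ := Small.equiv_perm_four_of_le_normalizer (N := ⊤) hK hC (normalizer_eq_top W).ge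
    (by rw [card_top]; exact e')
  exact (six_cp π (QuotientGroup.mk'_surjective _) (ker_le_center h) (topEquiv.symm.trans φ)).trans
    (mul_le_mul_of_nonneg_right (lin A V K).commProb_subgroup_le (by norm_num))

/-- bounds for the index of the scalars -/
def kb (e : ℕ) : ℕ := if e = 1 then 1 else if e = 2 then 24 else if e = 3 then 216 else if e = 4 then 1152
  else if e = 5 then 3000 else if e = 6 then 22680 else if e = 7 then 16464 else e ^ 8 / 4

theorem prim_data {p n : ℕ} (hp : p.Prime) (hV : Nat.card V = p ^ n) : ∃ f d e j κ z : ℕ, n = f * d ∧ 0 < f ∧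
    0 < e ∧ e ≤ d ∧ (∀ r, r.Prime → r ∣ e → r ∣ p ^ f - 1) ∧ 0 < j ∧ j ≤ f ∧ z ∣ p ^ f - 1 ∧
    Nat.card A = j * κ * z ∧ 0 < κ ∧ κ ≤ kb e ∧ 3 * (κ : ℚ) - 2 ≤ commProb A * j ^ 2 * κ ^ 2 ∧
    (e = 2 → κ ≤ 16 ∨ κ = 24 ∧ 1 ≤ commProb A * j ^ 2 * 6) := by
  obtain ⟨f, d, e, h1, h2, h3, h4, h5, h6, h7, h8, M, m1, m2, m3, m4⟩ := prim0 h hp hV
  have hs := al_sqf h m1 m2 m3 m4
  refine ⟨f, d, e, _, _, _, h1, h2, h3, h4, h6, Nat.pos_of_ne_zero index_ne_zero_of_finite, h7, h8, card_A h,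
    Nat.pos_of_ne_zero index_ne_zero_of_finite, ?_, cp_three h, ?_⟩
  · by_cases e1 : e = 1
    · rw [kap_one h (by rw [h5, e1]; rfl), e1]; rfl
    rw [kap_eq h]
    by_cases e8 : 8 ≤ e
    · have := al_gen h (by rw [h5]; nlinarith)
      rw [kb, if_neg (by omega), if_neg (by omega), if_neg (by omega), if_neg (by omega), if_neg (by omega),
        if_neg (by omega), if_neg (by omega), Nat.le_div_iff_mul_le (by norm_num)]
      rw [h5] at this ⊢
      nlinarith [Nat.mul_le_mul_left (e ^ 2) this]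
    obtain rfl | rfl | rfl | rfl | rfl | rfl : e = 2 ∨ e = 3 ∨ e = 4 ∨ e = 5 ∨ e = 6 ∨ e = 7 := by omega
    · have := hs Nat.prime_two.squarefree e1
      rw [h5] at this ⊢; norm_num [kb] at this ⊢; omega
    · have := hs Nat.prime_three.squarefree e1
      rw [h5] at this ⊢; norm_num [kb] at this ⊢; omega
    · have := al_sixteen h h5
      rw [h5]; norm_num [kb]; omega
    · have := hs Nat.prime_five.squarefree e1
      rw [h5] at this ⊢; norm_num [kb] at this ⊢; omega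
    · have := hs ((Nat.squarefree_mul (by norm_num : Nat.Coprime 2 3)).2
        ⟨Nat.prime_two.squarefree, Nat.prime_three.squarefree⟩) e1
      rw [h5] at this ⊢; norm_num [kb] at this ⊢; omega
    · have := hs (by norm_num : Nat.Prime 7).squarefree e1
      rw [h5] at this ⊢; norm_num [kb] at this ⊢; omega
  · rintro rfl
    have h9 := hs Nat.prime_two.squarefree (by norm_num)
    have h10 := al_four h h5
    have h11 := kap_eq h
    rw [h5] at h9 h11
    norm_num at h9 h11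
    by_cases h12 : R.relIndex (lin A V K) = 6
    · exact Or.inr ⟨by omega, cp_six h h5 (by omega)⟩
    · have : R.relIndex (lin A V K) ≠ 5 := fun e => by rw [e] at h10; norm_num at h10
      omega

end Cfsg.Lib.KP
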